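import Cfsg.Agent.Lib.SteinbergChar.Cells

/-!
Elements of a Chevalley group used in counting simple modules in the defining characteristic.
-/

set_option autoImplicit false

namespace CfsgLib.SimpleCount

open Cfsg.Lie CfsgLib.ChevStr CfsgLib.ChevStr.ChevCore
open scoped MatrixGroups

variable {D : ChevalleyDatum} {F : Type*} [Field F] (C : ChevCore D F)

/-- A root element inside the group. -/
def xg (r : ℕ) (t : F) : ↥(D.group F) := ⟨C.xGL r t, C.xGL_mem_group r t⟩

/-- The torus inside the group. -/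
def tg : (Fin D.rank → Fˣ) →* ↥(D.group F) :=
  (C.R.torus (F := F)).codRestrict (D.group F) fun c => C.borel_le_group (C.torus_mem_borel c)

/-- `U` inside the group. -/
def UP (_C : ChevCore D F) : Subgroup ↥(D.group F) := (D.posUnipotent F).subgroupOf (D.group F)

/-- The opposite unipotent subgroup inside the group. -/
def UN (_C : ChevCore D F) : Subgroup ↥(D.group F) := (D.negUnipotent F).subgroupOf (D.group F)

@[simp] theorem coe_xg (r : ℕ) (t : F) : (xg C r t : GL D.Idx F) = C.xGL r t := rfl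
@[simp] theorem coe_tg (c : Fin D.rank → Fˣ) : (tg C c : GL D.Idx F) = C.R.torus c := rfl
@[simp] theorem coe_nSG (i : Fin D.rank) : (C.nSG i : GL D.Idx F) = C.nS i := rfl

theorem mem_UP {g : ↥(D.group F)} : g ∈ UP C ↔ (g : GL D.Idx F) ∈ D.posUnipotent F := Iff.rfl
theorem mem_UN {g : ↥(D.group F)} : g ∈ UN C ↔ (g : GL D.Idx F) ∈ D.negUnipotent F := Iff.rfl

theorem xg_add (r : ℕ) (t u : F) : xg C r (t + u) = xg C r t * xg C r u :=
  Subtype.ext (C.xGL_add r t u)

theorem xg_zero (r : ℕ) : xg C r 0 = 1 := Subtype.ext (C.xGL_zero r)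

theorem xg_mem_UP {r : ℕ} (hr : D.IsPosRoot r) (t : F) : xg C r t ∈ UP C :=
  C.xGL_mem_posUnipotent hr t

theorem xg_mem_UN {r : ℕ} (hr : D.IsNegRoot r) (t : F) : xg C r t ∈ UN C :=
  C.xGL_mem_negUnipotent hr t

theorem nS_sq (i : Fin D.rank) : C.nS i * C.nS i = C.R.torusSingle i (-1) := by
  have h1 : C.nGL (D.simple i.val) ((-1 : Fˣ) : F) = (C.nS i)⁻¹ := by
    rw [Units.val_neg, Units.val_one, C.nGL_neg]
    rfl
  rw [C.nGL_simple] at h1
  have h2 : C.R.torusSingle i (-1 : Fˣ) * (C.nS i * C.nS i) = 1 := by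
    rw [← mul_assoc, h1, inv_mul_cancel]
  have h3 : (C.R.torusSingle i (-1 : Fˣ))⁻¹ = C.R.torusSingle i (-1) := by
    rw [RootData.torusSingle, ← map_inv, ← Pi.mulSingle_inv, inv_neg, inv_one]
  rw [← h3]
  exact eq_inv_of_mul_eq_one_right h2

/-- Rewriting `x(a) n` with a negative root element on the left. -/
theorem xGL_mul_nS (i : Fin D.rank) (a : Fˣ) :
    C.xGL (D.simple i.val) (a : F) * C.nS i =
      C.xGL (D.neg (D.simple i.val)) (a : F)⁻¹ *
        (C.xGL (D.simple i.val) (-(a : F)) * C.R.torusSingle i (-a)) := by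
  have hn : C.R.torusSingle i (-a) = C.nGL (D.simple i.val) (a : F) * C.nS i := by
    rw [C.nGL_simple, mul_assoc, nS_sq, RootData.torusSingle, RootData.torusSingle,
      RootData.torusSingle, ← map_mul, ← Pi.mulSingle_mul, mul_neg, mul_one]
  rw [hn, C.xGL_neg_eq _ (inv_ne_zero a.ne_zero), inv_inv, C.nGL_neg]
  rw [show C.xGL (D.simple i.val) (-(a : F)) = (C.xGL (D.simple i.val) (a : F))⁻¹ from (C.xGL_inv _ _).symm]
  group

theorem xg_mul_nSG (i : Fin D.rank) (a : Fˣ) :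
    xg C (D.simple i.val) (a : F) * C.nSG i =
      xg C (D.neg (D.simple i.val)) (a : F)⁻¹ *
        (xg C (D.simple i.val) (-(a : F)) * tg C (Pi.mulSingle i (-a))) :=
  Subtype.ext (xGL_mul_nS C i a)

theorem nSG_sq (i : Fin D.rank) : C.nSG i * C.nSG i = tg C (Pi.mulSingle i (-1)) :=
  Subtype.ext (nS_sq C i)

/-- The reflection acting on torus parameters. -/
def sv (i : Fin D.rank) : (Fin D.rank → Fˣ) →* (Fin D.rank → Fˣ) where
  toFun c := c * Pi.mulSingle i (C.R.torusChar c (C.R.α (D.simple i.val)))⁻¹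
  map_one' := by
    rw [show C.R.torusChar (1 : Fin D.rank → Fˣ) (C.R.α (D.simple i.val)) = 1 by
      simp [RootData.torusChar], inv_one, Pi.mulSingle_one, mul_one]
  map_mul' c d := by
    rw [C.R.torusChar_mul, mul_inv, Pi.mulSingle_mul]
    exact mul_mul_mul_comm _ _ _ _

theorem sv_apply (i : Fin D.rank) (c : Fin D.rank → Fˣ) :
    sv C i c = c * Pi.mulSingle i (C.R.torusChar c (C.R.α (D.simple i.val)))⁻¹ := rfl

theorem sv_single (i : Fin D.rank) (t : Fˣ) : sv C i (Pi.mulSingle i t) = Pi.mulSingle i t⁻¹ := by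
  rw [sv_apply, C.R.torusChar_single i t (C.R.simple_lt i), C.hR.cartan_self i, ← Pi.mulSingle_mul]
  congr 1
  rw [show ((2 : ℤ)) = ((2 : ℕ) : ℤ) from rfl, zpow_natCast, pow_two, mul_inv, mul_inv_cancel_left]

theorem nS_conj_torus' (i : Fin D.rank) (c : Fin D.rank → Fˣ) :
    C.R.torus c * C.nS i = C.nS i * C.R.torus (sv C i c) := by
  have h1 : C.R.torus (sv C i c) = C.nS i * C.R.torus c * (C.nS i)⁻¹ := (C.nS_conj_torus i c).symm
  have h2 : C.nS i * C.nS i * C.R.torus c = C.R.torus c * (C.nS i * C.nS i) := by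
    rw [nS_sq, RootData.torusSingle, ← map_mul, ← map_mul, mul_comm]
  rw [h1]
  calc C.R.torus c * C.nS i = C.R.torus c * (C.nS i * C.nS i) * (C.nS i)⁻¹ := by group
    _ = C.nS i * C.nS i * C.R.torus c * (C.nS i)⁻¹ := by rw [h2]
    _ = C.nS i * (C.nS i * C.R.torus c * (C.nS i)⁻¹) := by group

theorem tg_mul_nSG (i : Fin D.rank) (c : Fin D.rank → Fˣ) :
    tg C c * C.nSG i = C.nSG i * tg C (sv C i c) :=
  Subtype.ext (nS_conj_torus' C i c)

/-- The sign of the fundamental representative on its own negative root. -/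
theorem exists_nSG_neg (i : Fin D.rank) : ∃ e : Fˣ, ∀ z : F,
    C.nSG i * xg C (D.neg (D.simple i.val)) z = xg C (D.simple i.val) ((e : F) * z) * C.nSG i := by
  obtain ⟨-, s, hs⟩ := C.acts_nS i
  obtain ⟨h1, -, h2⟩ := hs (C.pNeg i)
  have he : (s (C.pNeg i) : F) ≠ 0 := by rcases h1 with h | h <;> simp [h]
  refine ⟨Units.mk0 _ he, fun z => Subtype.ext ?_⟩
  have h3 := h2 z
  rw [C.sPerm_pNeg] at h3
  show C.nS i * C.xGL (D.neg (D.simple i.val)) z =
    C.xGL (D.simple i.val) ((Units.mk0 _ he : Fˣ) * z) * C.nS i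
  rw [← mul_inv_eq_iff_eq_mul]
  exact h3

theorem nS_inv' (i : Fin D.rank) : (C.nS i)⁻¹ = C.R.torusSingle i (-1) * C.nS i := by
  have h := C.nGL_simple i (-1 : Fˣ)
  rw [Units.val_neg, Units.val_one, C.nGL_neg] at h
  exact h

theorem nS_inv_conj_Usub (i : Fin D.rank) {g : GL D.Idx F} (hg : g ∈ C.Usub i) :
    (C.nS i)⁻¹ * g * C.nS i ∈ C.Usub i := by
  have h1 := C.nS_conj_Usub i g hg
  have h2 : (C.nS i)⁻¹ * g * C.nS i =
      C.R.torusSingle i (-1) * (C.nS i * g * (C.nS i)⁻¹) * (C.R.torusSingle i (-1))⁻¹ := by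
    calc (C.nS i)⁻¹ * g * C.nS i = (C.nS i)⁻¹ * g * ((C.nS i)⁻¹)⁻¹ := by rw [inv_inv]
      _ = C.R.torusSingle i (-1) * C.nS i * g * (C.R.torusSingle i (-1) * C.nS i)⁻¹ := by
        rw [← nS_inv']
      _ = _ := by group
  rw [h2]
  exact (Subgroup.mem_normalizer_iff.1 (C.torus_normalizes _ ⟨_, rfl⟩) _).1 h1

theorem tg_normalizes_UP (c : Fin D.rank → Fˣ) {g : ↥(D.group F)} (hg : g ∈ UP C) :
    tg C c * g * (tg C c)⁻¹ ∈ UP C :=
  (Subgroup.mem_normalizer_iff.1 (C.diagonal_normalizes_pos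
    (show C.R.torus c ∈ D.diagonalSubgroup F by rw [C.diagonalSubgroup_eq]; exact ⟨c, rfl⟩)) _).1 hg

/-! ### The two unipotent subgroups and the longest representative -/

/-- A representative of the longest element. -/
noncomputable def nTop : GL D.Idx F := (C.exists_rep C.hR.exists_longest.choose_spec.1).choose

/-- The longest element. -/
noncomputable def wLong : Equiv.Perm (Fin D.nroots) := C.hR.exists_longest.choose

theorem wLong_mem : wLong C ∈ C.hR.weyl := C.hR.exists_longest.choose_spec.1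

theorem wLong_pos {s : Fin D.nroots} (hs : D.IsPosRoot s) : D.IsNegRoot (wLong C s) :=
  C.hR.exists_longest.choose_spec.2 s hs

theorem wLong_neg {s : Fin D.nroots} (hs : D.IsNegRoot s) : D.IsPosRoot (wLong C s) := by
  have h := wLong_pos C (s := ⟨D.neg s, C.R.neg_lt s s.isLt⟩) ((C.R.isPos_neg_iff s.isLt).2 hs)
  rwa [C.hR.apply_neg (wLong_mem C), C.R.isNeg_neg_iff (wLong C s).isLt] at h

theorem nTop_acts : C.Acts (nTop C) (wLong C) :=
  (C.exists_rep C.hR.exists_longest.choose_spec.1).choose_spec.2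

theorem nTop_mem : nTop C ∈ D.monomialSubgroup F :=
  C.rep_mem_monomial (C.exists_rep C.hR.exists_longest.choose_spec.1).choose_spec.1

/-- The longest representative inside the group. -/
noncomputable def nTopG : ↥(D.group F) := ⟨nTop C, C.monomial_le_group (nTop_mem C)⟩

@[simp] theorem coe_nTopG : (nTopG C : GL D.Idx F) = nTop C := rfl

theorem nTop_conj_neg {g : GL D.Idx F} (hg : g ∈ D.negUnipotent F) :
    nTop C * g * (nTop C)⁻¹ ∈ D.posUnipotent F := by
  rw [C.negUnipotent_eq] at hg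
  exact C.conj_Ucl_le (Acts.moves C (nTop_acts C))
    (fun s hs t => C.xGL_mem_posUnipotent (wLong_neg C hs) t) g hg

theorem nTop_inv_conj_pos {g : GL D.Idx F} (hg : g ∈ D.posUnipotent F) :
    (nTop C)⁻¹ * g * nTop C ∈ D.negUnipotent F := by
  rw [C.posUnipotent_eq] at hg
  have h := C.conj_Ucl_le (Acts.moves C (Acts.inv C (nTop_acts C)))
    (S := {r | D.IsPosRoot r}) (T := D.negUnipotent F) (fun s hs t => ?_) g hg
  · rwa [inv_inv] at h
  · refine C.xGL_mem_negUnipotent ((C.R.pos_or_neg (Fin.isLt _)).resolve_left fun hp => ?_) t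
    have h1 := wLong_pos C hp
    rw [Equiv.Perm.inv_def, Equiv.apply_symm_apply] at h1
    exact C.R.not_pos_and_neg hs h1

/-- `G = ⋃ U⁻ n B`. -/
theorem exists_neg_decomp (g : ↥(D.group F)) : ∃ n : ↥(D.group F), ∃ u ∈ UN C, ∃ v ∈ UP C,
    ∃ c, (n : GL D.Idx F) ∈ D.monomialSubgroup F ∧ g = u * n * (v * tg C c) := by
  obtain ⟨m, hm, hcell⟩ := C.exists_bigCell (nTopG C * g).2
  obtain ⟨x, hx, y, hy, hxy⟩ := C.mem_bigCell.1 hcell
  obtain ⟨u, hu, d, rfl⟩ := C.mem_borel.1 hx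
  obtain ⟨v, hv, c, rfl⟩ := C.mem_borel.1 hy
  have hu' := nTop_inv_conj_pos C hu
  have hn : (nTop C)⁻¹ * (C.R.torus d * m) ∈ D.monomialSubgroup F :=
    mul_mem (inv_mem (nTop_mem C)) (mul_mem (C.torus_mem_monomial d) hm)
  refine ⟨⟨_, C.monomial_le_group hn⟩, (nTopG C)⁻¹ * ⟨u, C.borel_le_group
    (le_sup_left (b := D.diagonalSubgroup F) hu)⟩ * nTopG C, hu', ⟨v, C.borel_le_group
    (le_sup_left (b := D.diagonalSubgroup F) hv)⟩, hv, c, hn, Subtype.ext ?_⟩
  have h : nTop C * (g : GL D.Idx F) = u * C.R.torus d * m * (v * C.R.torus c) := hxy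
  show (g : GL D.Idx F) = (nTop C)⁻¹ * u * nTop C * ((nTop C)⁻¹ * (C.R.torus d * m)) * (v * C.R.torus c)
  rw [eq_inv_mul_iff_mul_eq.2 h]
  group

end CfsgLib.SimpleCount
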