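import Mathlib.GroupTheory.PGroup
import Mathlib.LinearAlgebra.Eigenspace.Triangularizable
import Mathlib.Algebra.CharP.Basic
import Mathlib.Data.ZMod.Basic

/-!
Fixed vectors of finite groups of prime power order in characteristic `p`, and common eigenvectors of
commuting operators.
-/

set_option autoImplicit false

namespace CfsgLib.SimpleCount

variable {k : Type*} [Field k] {V : Type*} [AddCommGroup V] [Module k V]

/-- A `p`-group acting linearly on a nonzero space in characteristic `p` fixes a nonzero vector. -/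
theorem exists_fix_ne_zero {G : Type*} [Group G] (p : ℕ) [Fact p.Prime] [CharP k p] {U : Subgroup G}
    [Finite U] (hU : IsPGroup p U) (ρ : G →* Module.End k V) [Nontrivial V] :
    ∃ v : V, v ≠ 0 ∧ ∀ u ∈ U, ρ u v = v := by
  classical
  haveI := Fintype.ofFinite U
  obtain ⟨v₀, hv₀⟩ := exists_ne (0 : V)
  let φ : ZMod p →+* k := ZMod.castHom dvd_rfl k
  let Φ : (U → ZMod p) →+ V :=
    { toFun := fun f => ∑ u : U, φ (f u) • ρ u v₀
      map_zero' := by simp
      map_add' := fun f g => by simp [add_smul, Finset.sum_add_distrib] }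
  have hinv : ∀ (a : U) (x : V), x ∈ Φ.range → ρ a x ∈ Φ.range := by
    rintro a _ ⟨f, rfl⟩
    refine ⟨fun u => f (a⁻¹ * u), ?_⟩
    show ∑ u : U, φ (f (a⁻¹ * u)) • ρ u v₀ = ρ a (∑ u : U, φ (f u) • ρ u v₀)
    simp only [map_sum, map_smul]
    refine (Fintype.sum_equiv (Equiv.mulLeft a) _ _ fun u => ?_).symm
    rw [Equiv.coe_mulLeft, inv_mul_cancel_left, Subgroup.coe_mul, map_mul, Module.End.mul_apply]
  have hv₀X : v₀ ∈ Φ.range := by
    refine ⟨Pi.single 1 1, ?_⟩
    show ∑ u : U, φ ((Pi.single 1 1 : U → ZMod p) u) • ρ u v₀ = v₀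
    rw [Fintype.sum_eq_single (1 : U) fun u hu => by simp [Pi.single_eq_of_ne hu]]
    simp
  letI : MulAction U Φ.range :=
    { smul := fun a x => ⟨ρ a x, hinv a x x.2⟩
      one_smul := fun x => Subtype.ext (by show ρ ((1 : U) : G) (x : V) = x; simp)
      mul_smul := fun a b x => Subtype.ext (by
        show ρ ((a * b : U) : G) (x : V) = ρ a (ρ b x)
        rw [Subgroup.coe_mul, map_mul, Module.End.mul_apply]) }
  have hdvd : Nat.card Φ.range ∣ p ^ Fintype.card U := by
    have h := AddSubgroup.card_range_dvd Φ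
    rwa [Nat.card_eq_fintype_card (α := U → ZMod p), Fintype.card_fun, ZMod.card] at h
  obtain ⟨j, -, hj⟩ := (Nat.dvd_prime_pow (Fact.out : p.Prime)).1 hdvd
  haveI : Finite Φ.range := Set.finite_range Φ |>.to_subtype
  have hne : Nat.card Φ.range ≠ 1 := fun h => hv₀ (by
    haveI := (Nat.card_eq_one_iff_unique.1 h).1
    exact congrArg Subtype.val (Subsingleton.elim (⟨v₀, hv₀X⟩ : Φ.range) 0))
  have hp : p ∣ Nat.card Φ.range := by
    rw [hj] at hne ⊢
    exact dvd_pow_self p fun h0 => hne (by rw [h0, pow_zero])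
  obtain ⟨b, hb, hb0⟩ := hU.exists_fixed_point_of_prime_dvd_card_of_fixed_point Φ.range hp
    (a := (0 : Φ.range)) (fun a => Subtype.ext (map_zero (ρ a)))
  exact ⟨b, fun h => hb0 (Subtype.ext h.symm), fun u hu => congrArg Subtype.val (hb ⟨u, hu⟩)⟩

variable [IsAlgClosed k]

/-- Commuting operators on a nonzero invariant finite-dimensional subspace have a common eigenvector in it. -/
theorem exists_common_eigen {ι : Type*} (f : ι → Module.End k V) (hf : ∀ i j, Commute (f i) (f j)) :
    ∀ (W : Submodule k V) [FiniteDimensional k W], W ≠ ⊥ → (∀ i, ∀ w ∈ W, f i w ∈ W) →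
      ∃ v ∈ W, v ≠ 0 ∧ ∀ i, ∃ c : k, f i v = c • v := by
  intro W _ hW hinv
  induction hn : Module.finrank k W using Nat.strong_induction_on generalizing W with
  | _ n ih =>
    by_cases hall : ∀ i, ∃ c : k, ∀ w ∈ W, f i w = c • w
    · obtain ⟨v, hv, hv0⟩ := W.ne_bot_iff.1 hW
      exact ⟨v, hv, hv0, fun i => (hall i).imp fun c hc => hc v hv⟩
    · push Not at hall
      obtain ⟨i, hi⟩ := hall
      haveI : Nontrivial W := Submodule.nontrivial_iff_ne_bot.2 hW
      obtain ⟨c, hc⟩ := Module.End.exists_eigenvalue ((f i).restrict (hinv i))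
      obtain ⟨u, hu⟩ := hc.exists_hasEigenvector
      have hui : f i u = c • (u : V) := congrArg Subtype.val hu.apply_eq_smul
      set W' : Submodule k V := W ⊓ LinearMap.ker (f i - c • 1) with hW'
      have hlt : W' < W := by
        refine lt_of_le_of_ne inf_le_left fun h => ?_
        obtain ⟨w, hw, hne⟩ := hi c
        exact hne (sub_eq_zero.1 (show f i w - c • w = 0 from
          (LinearMap.mem_ker.1 (h.symm ▸ hw : w ∈ W').2)))
      haveI : FiniteDimensional k W' := Submodule.finiteDimensional_of_le hlt.le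
      obtain ⟨v, hv, hv'⟩ := ih _ (hn ▸ Submodule.finrank_lt_finrank_of_lt hlt) W'
        (W'.ne_bot_iff.2 ⟨u, ⟨u.2, LinearMap.mem_ker.2 (sub_eq_zero.2 hui)⟩,
          fun h => hu.2 (Subtype.ext h)⟩)
        (fun j w hw => ⟨hinv j w hw.1, LinearMap.mem_ker.2 (by
          have h1 : f i w = c • w := sub_eq_zero.1 (LinearMap.mem_ker.1 hw.2)
          show f i (f j w) - c • f j w = 0
          rw [← Module.End.mul_apply, (hf i j).eq, Module.End.mul_apply, h1, map_smul, sub_self])⟩)
        rfl
      exact ⟨v, hv.1, hv'⟩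

end CfsgLib.SimpleCount
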