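import Cfsg.Agent.Lib.SimpleCount.Ops
import Cfsg.Agent.Lib.SimpleCount.Fixed

/-!
Bruhat cell operators and the existence of common eigenvectors of the `T_i` fixed by `U`.
-/

set_option autoImplicit false

namespace CfsgLib.SimpleCount

open Cfsg.Lie CfsgLib.ChevStr CfsgLib.ChevStr.ChevCore CfsgLib.SteinbergChar
open scoped MatrixGroups

variable {D : ChevalleyDatum} {F : Type*} [Field F] [Fintype F] (C : ChevCore D F)
variable {k : Type*} [Field k] {V : Type*} [AddCommGroup V] [Module k V]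
variable (ρ : ↥(D.group F) →* Module.End k V)

/-- A representative of a Weyl element inside the group (`1` outside the Weyl group). -/
noncomputable def wg (w : Equiv.Perm (Fin D.nroots)) : ↥(D.group F) :=
  ⟨nw C w, by
    by_cases hw : w ∈ C.hR.weyl
    · exact C.monomial_le_group (nw_mem C hw)
    · rw [nw, dif_neg hw]; exact one_mem _⟩

@[simp] theorem coe_wg (w : Equiv.Perm (Fin D.nroots)) : (wg C w : GL D.Idx F) = nw C w := rfl

/-- A monomial element with the permutation of `w` differs from the representative by a torus element. -/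
theorem exists_wg {n : ↥(D.group F)} {w : Equiv.Perm (Fin D.nroots)}
    (hn : (n : GL D.Idx F) ∈ D.monomialSubgroup F) (h : C.Moves (n : GL D.Idx F) w) :
    ∃ c, n = wg C w * tg C c := by
  have h1 := Moves.mul C (Moves.inv C (nw_mem C h.1) (nw_moves C h.1)) h
  rw [inv_mul_cancel] at h1
  have h2 := C.mem_diagonal_of_moves_one (mul_mem (inv_mem (nw_mem C h.1)) hn) h1
  rw [C.diagonalSubgroup_eq] at h2
  obtain ⟨c, hc⟩ := h2
  exact ⟨c, Subtype.ext (by rw [Subgroup.coe_mul, coe_tg, hc, coe_wg, mul_inv_cancel_left])⟩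

/-- An element of `U_w` inside the group. -/
def ug (w : Equiv.Perm (Fin D.nroots)) (u : ↥(C.Ucl (C.hR.invRoots w))) : ↥(D.group F) :=
  ⟨u, C.borel_le_group (C.Ucl_invRoots_le _ u.2)⟩

/-- The sum over the cell of `w`. -/
noncomputable def E (w : Equiv.Perm (Fin D.nroots)) (m : V) : V :=
  ∑ᶠ u : ↥(C.Ucl (C.hR.invRoots w⁻¹)), ρ (ug C w⁻¹ u * wg C w) m

theorem invRoots_subset {w : Equiv.Perm (Fin D.nroots)} {i : Fin D.rank}
    (hi : D.IsPosRoot (w (C.pRoot i))) :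
    C.hR.invRoots w ⊆ {r | D.IsPosRoot r ∧ r ≠ D.simple i.val} := by
  rintro r ⟨hr, hm⟩
  rw [C.hR.mem_invSet] at hm
  refine ⟨hm.1, fun e => ?_⟩
  rw [show (⟨r, hr⟩ : Fin D.nroots) = C.pRoot i from Fin.ext e] at hm
  exact C.R.not_pos_and_neg hi hm.2

theorem eq_zero_of_mem_Usub (i : Fin D.rank) {s : F}
    (h : C.xGL (D.simple i.val) s ∈ C.Usub i) : s = 0 := by
  obtain ⟨-, e, he⟩ := C.acts_nS i
  obtain ⟨h1, -, h2⟩ := he (C.pRoot i)
  have h3 := h2 s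
  rw [C.sPerm_pRoot] at h3
  have h4 := C.nS_conj_Usub i _ h
  rw [show (D.simple i.val) = ((C.pRoot i : Fin D.nroots) : ℕ) from rfl, h3] at h4
  have h5 := (Subgroup.eq_bot_iff_forall _).1 C.borel_inf_negUnipotent _ (Subgroup.mem_inf.2
    ⟨le_sup_left (b := D.diagonalSubgroup F) (C.Usub_le i h4),
      C.xGL_mem_negUnipotent ((C.R.isNeg_neg_iff (C.R.simple_lt i)).2 (C.R.simple_pos i)) _⟩)
  have h6 := (C.xGL_eq_one_iff (Fin.isLt _)).1 h5
  rcases h1 with h | h <;> simpa [h] using h6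

/-- The recursion along an ascent. -/
theorem E_step {w : Equiv.Perm (Fin D.nroots)} (hw : w ∈ C.hR.weyl) {i : Fin D.rank}
    (hi : D.IsPosRoot (w⁻¹ (C.pRoot i))) {m : V} {χ : (Fin D.rank → Fˣ) →* kˣ}
    (hχ : EigH C ρ χ m) :
    ∃ c : k, c ≠ 0 ∧ E C ρ (C.hR.sPerm i * w) m = c • T C ρ i (E C ρ w m) := by
  classical
  have hinv : (C.hR.sPerm i * w)⁻¹ = w⁻¹ * C.hR.sPerm i := by
    rw [mul_inv_rev, inv_eq_of_mul_eq_one_right (C.hR.sPerm_mul_self i)]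
  have hsub := invRoots_subset C hi
  have hmem : ∀ (t : F) (u : ↥(C.Ucl (C.hR.invRoots w⁻¹))),
      C.xGL (D.simple i.val) t * (C.nS i * u * (C.nS i)⁻¹) ∈
        C.Ucl (C.hR.invRoots (C.hR.sPerm i * w)⁻¹) := by
    intro t u
    rw [hinv]
    refine mul_mem (C.xGL_mem_Ucl ((C.hR.mem_invRoots (s := C.pRoot i)).2 ⟨C.R.simple_pos i, ?_⟩) t)
      (C.conj_Ucl_le (Acts.moves C (C.acts_nS i)) (fun s hs t' => C.xGL_mem_Ucl ?_ t') u u.2)
    · rw [Equiv.Perm.mul_apply, C.sPerm_pRoot, show ((w⁻¹ (C.pNeg i) : Fin D.nroots) : ℕ) =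
        D.neg (w⁻¹ (C.pRoot i)) from C.hR.apply_neg (inv_mem hw) (C.pRoot i),
        C.R.isNeg_neg_iff (w⁻¹ _).isLt]
      exact hi
    · obtain ⟨hs1, hs2⟩ := hsub hs
      exact (C.hR.mem_invRoots (s := C.hR.sPerm i s)).2 ⟨C.hR.refl_pos i hs1 hs2,
        by rw [Equiv.Perm.mul_apply, C.hR.sPerm_sPerm]; exact ((C.hR.mem_invRoots).1 hs).2⟩
  let f : F × ↥(C.Ucl (C.hR.invRoots w⁻¹)) → ↥(C.Ucl (C.hR.invRoots (C.hR.sPerm i * w)⁻¹)) :=
    fun x => ⟨_, hmem x.1 x.2⟩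
  have hinj : Function.Injective f := by
    rintro ⟨t, u⟩ ⟨t', u'⟩ h
    have h' : C.xGL (D.simple i.val) t * (C.nS i * u * (C.nS i)⁻¹) =
        C.xGL (D.simple i.val) t' * (C.nS i * u' * (C.nS i)⁻¹) := congrArg Subtype.val h
    have ha := C.nS_conj_Usub i _ (C.Ucl_mono hsub u.2)
    have ha' := C.nS_conj_Usub i _ (C.Ucl_mono hsub u'.2)
    have h2 : C.xGL (D.simple i.val) (-t' + t) =
        (C.nS i * u' * (C.nS i)⁻¹) * (C.nS i * u * (C.nS i)⁻¹)⁻¹ := by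
      rw [C.xGL_add, eq_mul_inv_iff_mul_eq, mul_assoc, h', ← mul_assoc, ← C.xGL_add, neg_add_cancel,
        C.xGL_zero, one_mul]
    have h3 := eq_zero_of_mem_Usub C i (h2.symm ▸ mul_mem ha' (inv_mem ha))
    obtain rfl : t = t' := by linear_combination h3
    rw [mul_right_inj, mul_left_inj, mul_right_inj] at h'
    rw [Subtype.ext h']
  have hbij : Function.Bijective f := by
    refine hinj.bijective_of_nat_card_le (le_of_eq ?_)
    rw [Nat.card_prod, C.card_Ucl (C.hR.invRoots_closed (inv_mem (mul_mem (C.hR.sPerm_mem i) hw))),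
      C.card_Ucl (C.hR.invRoots_closed (inv_mem hw)), C.hR.ncard_invRoots, C.hR.ncard_invRoots, hinv,
      C.hR.invSet_mul_sPerm (inv_mem hw) i hi, pow_succ', Nat.card_eq_fintype_card]
  obtain ⟨d, hd⟩ := exists_wg C (n := C.nSG i * wg C w)
    (mul_mem (C.nS_mem_monomial i) (nw_mem C hw))
    (Moves.mul C (Acts.moves C (C.acts_nS i)) (nw_moves C hw))
  haveI := Fintype.ofFinite ↥(C.Ucl (C.hR.invRoots w⁻¹))
  haveI := Fintype.ofFinite ↥(C.Ucl (C.hR.invRoots (C.hR.sPerm i * w)⁻¹))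
  refine ⟨((χ d)⁻¹ : kˣ), Units.ne_zero _, ?_⟩
  have key : T C ρ i (E C ρ w m) = (χ d : k) • E C ρ (C.hR.sPerm i * w) m := by
    rw [E, E, finsum_eq_sum_of_fintype, finsum_eq_sum_of_fintype, Finset.smul_sum]
    simp only [T, map_sum, ← ρ_mul]
    rw [← Fintype.sum_prod_type']
    refine Fintype.sum_equiv (Equiv.ofBijective f hbij) _ _ fun x => ?_
    have he : xg C (D.simple i.val) x.1 * C.nSG i * (ug C w⁻¹ x.2 * wg C w) =
        ug C (C.hR.sPerm i * w)⁻¹ (f x) * (C.nSG i * wg C w) := Subtype.ext (by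
      show C.xGL (D.simple i.val) x.1 * C.nS i * ((x.2 : GL D.Idx F) * nw C w) =
        C.xGL (D.simple i.val) x.1 * (C.nS i * x.2 * (C.nS i)⁻¹) * (C.nS i * nw C w)
      group)
    rw [he, hd, ← mul_assoc, ρ_mul, hχ, map_smul]
    rfl
  rw [key, smul_smul, ← Units.val_mul, inv_mul_cancel, Units.val_one, one_smul]

theorem E_one {m : V} {χ : (Fin D.rank → Fˣ) →* kˣ} (hχ : EigH C ρ χ m) :
    ∃ c : k, c ≠ 0 ∧ E C ρ 1 m = c • m := by
  have hbot : C.Ucl (C.hR.invRoots (1 : Equiv.Perm (Fin D.nroots))⁻¹) ≤ ⊥ := by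
    refine C.Ucl_le fun r hr _ => ?_
    rw [inv_one] at hr
    obtain ⟨hr', hm⟩ := hr
    rw [C.hR.mem_invSet] at hm
    exact absurd hm.2 fun h => C.R.not_pos_and_neg hm.1 h
  obtain ⟨c, hc⟩ := exists_wg C (n := (1 : ↥(D.group F))) (w := 1) (one_mem _)
    (Acts.moves C C.acts_one)
  refine ⟨((χ c⁻¹ : kˣ) : k), Units.ne_zero _, ?_⟩
  haveI : Subsingleton ↥(C.Ucl (C.hR.invRoots (1 : Equiv.Perm (Fin D.nroots))⁻¹)) :=
    ⟨fun a b => Subtype.ext ((Subgroup.mem_bot.1 (hbot a.2)).trans (Subgroup.mem_bot.1 (hbot b.2)).symm)⟩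
  rw [E, finsum_eq_single _ (1 : ↥(C.Ucl (C.hR.invRoots (1 : Equiv.Perm (Fin D.nroots))⁻¹)))
    (fun u hu => absurd (Subsingleton.elim u 1) hu)]
  have h1 : ug C (1 : Equiv.Perm (Fin D.nroots))⁻¹ 1 * wg C 1 = tg C c⁻¹ := by
    rw [show ug C (1 : Equiv.Perm (Fin D.nroots))⁻¹ 1 = 1 from Subtype.ext rfl, one_mul, map_inv]
    exact eq_inv_of_mul_eq_one_left hc.symm
  rw [h1, hχ]

theorem E_weight {m : V} {χ : (Fin D.rank → Fˣ) →* kˣ} (hm : FixU C ρ m) (hχ : EigH C ρ χ m)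
    {w : Equiv.Perm (Fin D.nroots)} (hw : w ∈ C.hR.weyl) :
    FixU C ρ (E C ρ w m) ∧ ∃ ψ, EigH C ρ ψ (E C ρ w m) := by
  suffices ∀ v ∈ C.hR.weyl, FixU C ρ (E C ρ v⁻¹ m) ∧ ∃ ψ, EigH C ρ ψ (E C ρ v⁻¹ m) by
    simpa using this w⁻¹ (inv_mem hw)
  refine C.hR.weyl_inv_induction (P := fun v => FixU C ρ (E C ρ v⁻¹ m) ∧
    ∃ ψ, EigH C ρ ψ (E C ρ v⁻¹ m)) ?_ ?_
  · obtain ⟨c, -, hc⟩ := E_one C ρ hχ
    rw [inv_one, hc]
    exact ⟨fun u hu => by rw [map_smul, hm u hu], χ, fun d => by rw [map_smul, hχ, smul_comm]⟩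
  · rintro v hv i hi ⟨h1, ψ, h2⟩
    obtain ⟨c, -, hc⟩ := E_step C ρ (inv_mem hv) (i := i) (by rw [inv_inv]; exact hi) hχ
    rw [mul_inv_rev, inv_eq_of_mul_eq_one_right (C.hR.sPerm_mul_self i), hc]
    exact ⟨fun u hu => by rw [map_smul, T_fix C ρ h1 i u hu],
      ψ.comp (sv C i), fun d => by rw [map_smul, T_eig C ρ h2, smul_comm]⟩

variable (hq : ((Fintype.card F : ℕ) : k) = 0)

include hq

/-- A vector fixed by `U` gives a common eigenvector of all the `T_i`. -/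
theorem exists_eigen_of_fix {m : V} {χ : (Fin D.rank → Fˣ) →* kˣ} (hm : FixU C ρ m)
    (hχ : EigH C ρ χ m) (hm0 : m ≠ 0) :
    ∃ v : V, v ≠ 0 ∧ FixU C ρ v ∧ (∃ ψ, EigH C ρ ψ v) ∧ ∀ i, ∃ l : k, T C ρ i v = l • v := by
  classical
  obtain ⟨w, hw, hmax⟩ := (C.hR.weylSet.filter fun w => E C ρ w m ≠ 0).exists_max_image
    (fun w => (C.hR.invSet w⁻¹).card) ⟨1, by
      obtain ⟨c, hc, he⟩ := E_one C ρ hχ
      simp [C.hR.mem_weylSet, one_mem, he, hc, hm0]⟩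
  rw [Finset.mem_filter, C.hR.mem_weylSet] at hw
  obtain ⟨h1, ψ, h2⟩ := E_weight C ρ hm hχ hw.1
  refine ⟨_, hw.2, h1, ⟨ψ, h2⟩, fun i => ?_⟩
  rcases C.R.pos_or_neg (w⁻¹ (C.pRoot i)).isLt with hp | hn
  · obtain ⟨c, hc, he⟩ := E_step C ρ hw.1 hp hχ
    refine ⟨0, ?_⟩
    rw [zero_smul]
    by_contra hne
    have h3 := hmax (C.hR.sPerm i * w) (Finset.mem_filter.2
      ⟨(C.hR.mem_weylSet).2 (mul_mem (C.hR.sPerm_mem i) hw.1), by
        rw [he]; exact smul_ne_zero hc hne⟩)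
    have h4 := C.hR.invSet_mul_sPerm (inv_mem hw.1) i hp
    rw [mul_inv_rev, inv_eq_of_mul_eq_one_right (C.hR.sPerm_mul_self i)] at h3
    omega
  · have hw' : C.hR.sPerm i * w ∈ C.hR.weyl := mul_mem (C.hR.sPerm_mem i) hw.1
    have hp : D.IsPosRoot ((C.hR.sPerm i * w)⁻¹ (C.pRoot i)) := by
      rw [mul_inv_rev, inv_eq_of_mul_eq_one_right (C.hR.sPerm_mul_self i), Equiv.Perm.mul_apply,
        C.sPerm_pRoot, show ((w⁻¹ (C.pNeg i) : Fin D.nroots) : ℕ) = D.neg (w⁻¹ (C.pRoot i)) from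
          C.hR.apply_neg (inv_mem hw.1) (C.pRoot i), C.R.isPos_neg_iff (w⁻¹ _).isLt]
      exact hn
    obtain ⟨c, -, he⟩ := E_step C ρ hw' hp hχ
    rw [← mul_assoc, C.hR.sPerm_mul_self i, one_mul] at he
    obtain ⟨h1', ψ', h2'⟩ := E_weight C ρ hm hχ hw'
    refine ⟨sig ψ' i, ?_⟩
    rw [he, T_smul, T_T C ρ hq h1' h2', smul_comm]

end CfsgLib.SimpleCount
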