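import Cfsg.Agent.Lib.SimpleCount.Cell
import Cfsg.Agent.Lib.ModRep.Simple
import Mathlib.LinearAlgebra.Dual.Lemmas

/-!
Weights of the simple modules: every simple module has a weight, the weight vector is unique up to a
scalar, and the weight determines the module.
-/

set_option autoImplicit false

namespace CfsgLib.SimpleCount

open Cfsg.Lie CfsgLib.ChevStr CfsgLib.ChevStr.ChevCore CfsgLib.ModRep
open scoped MatrixGroups

variable {D : ChevalleyDatum} {F : Type*} [Field F] [Fintype F] (C : ChevCore D F)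
variable {k : Type*} [Field k] {V : Type*} [AddCommGroup V] [Module k V]
variable (ρ : ↥(D.group F) →* Module.End k V)

/-- The character of the torus of a weight. -/
def wchar (a : Fin D.rank → Option (Fˣ →* kˣ)) : (Fin D.rank → Fˣ) →* kˣ :=
  ∏ i, ((a i).getD 1).comp (Pi.evalMonoidHom (fun _ : Fin D.rank => Fˣ) i)

/-- The eigenvalue of `T_i` of a weight. -/
def wlam (o : Option (Fˣ →* kˣ)) : k :=
  match o with
  | none => -1
  | some _ => 0

theorem wchar_single (a : Fin D.rank → Option (Fˣ →* kˣ)) (i : Fin D.rank) (t : Fˣ) :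
    wchar a (Pi.mulSingle i t) = ((a i).getD 1) t := by
  rw [wchar, MonoidHom.finset_prod_apply, Fintype.prod_eq_single i]
  · simp
  · intro j hj; simp [Pi.mulSingle_eq_of_ne hj]

/-- `v` is a vector of weight `a`. -/
structure IsWeight (a : Fin D.rank → Option (Fˣ →* kˣ)) (v : V) : Prop where
  ne : v ≠ 0
  fix : FixU C ρ v
  eig : EigH C ρ (wchar a) v
  hT : ∀ i, T C ρ i v = wlam (a i) • v

variable (hq : ((Fintype.card F : ℕ) : k) = 0)

include hq in
theorem exists_weight_of_eigen {v : V} (h0 : v ≠ 0) (hv : FixU C ρ v)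
    {ψ : (Fin D.rank → Fˣ) →* kˣ} (hψ : EigH C ρ ψ v)
    (hT : ∀ i, ∃ l : k, T C ρ i v = l • v) : ∃ a, IsWeight C ρ a v := by
  classical
  choose l hl using hT
  let a : Fin D.rank → Option (Fˣ →* kˣ) := fun i =>
    if l i = 0 then some (ψ.comp (MonoidHom.mulSingle (fun _ : Fin D.rank => Fˣ) i)) else none
  have h1 : ∀ i, ((a i).getD 1) = ψ.comp (MonoidHom.mulSingle (fun _ : Fin D.rank => Fˣ) i) ∧
      l i = wlam (a i) := by
    intro i
    by_cases h : l i = 0
    · simp [a, h, wlam]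
    · have h2 := (eigen_cases C ρ hq hv hψ h0 (hl i)).resolve_left h
      have h3 : ∀ t, ψ (Pi.mulSingle i t) = 1 := by
        by_contra hc
        rw [sig, if_neg hc] at h2
        exact h h2
      rw [sig, if_pos h3] at h2
      refine ⟨?_, by simp [a, h, wlam, h2]⟩
      simp only [a, if_neg h, Option.getD_none]
      exact MonoidHom.ext fun t => (h3 t).symm
  refine ⟨a, ⟨h0, hv, ?_, fun i => by rw [hl i, (h1 i).2]⟩⟩
  have h4 : wchar a = ψ := by
    refine MonoidHom.ext fun c => ?_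
    rw [← Finset.univ_prod_mulSingle c, map_prod, map_prod]
    refine Finset.prod_congr rfl fun i _ => ?_
    rw [wchar_single, (h1 i).1]
    rfl
  rw [h4]
  exact hψ

theorem IsWeight.map {W : Type*} [AddCommGroup W] [Module k W] {σ : ↥(D.group F) →* Module.End k W}
    (f : V →ₗ[k] W) (hf : ∀ g v, f (ρ g v) = σ g (f v)) {a : Fin D.rank → Option (Fˣ →* kˣ)} {v : V}
    (h : IsWeight C ρ a v) (h0 : f v ≠ 0) : IsWeight C σ a (f v) := by
  refine ⟨h0, fun u hu => by rw [← hf, h.fix u hu], fun c => by rw [← hf, h.eig c, map_smul],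
    fun i => ?_⟩
  rw [← map_smul, ← h.hT i]
  simp only [T, map_sum, hf]

theorem IsWeight.smul {a : Fin D.rank → Option (Fˣ →* kˣ)} {v : V} (h : IsWeight C ρ a v) {c : k}
    (hc : c ≠ 0) : IsWeight C ρ a (c • v) :=
  h.map C ρ (c • LinearMap.id) (fun g w => by simp) (by simp [hc, h.ne])

theorem IsWeight.weight_unique {a b : Fin D.rank → Option (Fˣ →* kˣ)} {v : V}
    (ha : IsWeight C ρ a v) (hb : IsWeight C ρ b v) : a = b := by
  funext i
  have h1 : wlam (a i) = (wlam (b i) : k) :=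
    smul_left_injective k ha.ne ((ha.hT i).symm.trans (hb.hT i))
  have h2 : wchar a = wchar b := MonoidHom.ext fun c =>
    Units.ext (smul_left_injective k ha.ne ((ha.eig c).symm.trans (hb.eig c)))
  have h3 : ∀ t, ((a i).getD 1) t = ((b i).getD 1) t := fun t => by
    rw [← wchar_single, h2, wchar_single]
  rcases hai : a i with _ | c <;> rcases hbi : b i with _ | d
  · rfl
  · rw [hai, hbi] at h1
    exact absurd (show (-1 : k) = 0 from h1) (neg_ne_zero.2 one_ne_zero)
  · rw [hai, hbi] at h1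
    exact absurd (show (0 : k) = -1 from h1).symm (neg_ne_zero.2 one_ne_zero)
  · rw [hai, hbi] at h3
    exact congrArg some (MonoidHom.ext h3)

/-! ### The orbit of the opposite unipotent group -/

/-- The span of the orbit of `v` under the opposite unipotent subgroup. -/
def genSpan (v : V) : Submodule k V := Submodule.span k (Set.range fun u : ↥(UN C) => ρ u v)

theorem genSpan_stable (v : V) {u : ↥(D.group F)} (hu : u ∈ UN C) {w : V}
    (hw : w ∈ genSpan C ρ v) : ρ u w ∈ genSpan C ρ v := by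
  induction hw using Submodule.span_induction with
  | mem x hx =>
    obtain ⟨u', rfl⟩ := hx
    exact Submodule.subset_span ⟨⟨u * u', mul_mem hu u'.2⟩, by rw [← ρ_mul]⟩
  | zero => rw [map_zero]; exact zero_mem _
  | add x y _ _ hx hy => rw [map_add]; exact add_mem hx hy
  | smul r x _ hx => rw [map_smul]; exact Submodule.smul_mem _ _ hx

theorem wg_mem_genSpan {v : V} {χ : (Fin D.rank → Fˣ) →* kˣ} (hv : FixU C ρ v) (hχ : EigH C ρ χ v)
    (hT : ∀ i, ∃ l : k, T C ρ i v = l • v) :
    ∀ w ∈ C.hR.weyl, ρ (wg C w) v ∈ genSpan C ρ v := by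
  classical
  have hself : v ∈ genSpan C ρ v := Submodule.subset_span ⟨1, by simp⟩
  refine C.hR.weyl_inv_induction ?_ ?_
  · obtain ⟨c, hc⟩ := exists_wg C (n := (1 : ↥(D.group F))) (w := 1) (one_mem _)
      (Acts.moves C C.acts_one)
    rw [show wg C 1 = tg C c⁻¹ by rw [map_inv]; exact eq_inv_of_mul_eq_one_left hc.symm, hχ]
    exact Submodule.smul_mem _ _ hself
  · intro w hw i hi ih
    obtain ⟨c, hc⟩ := exists_wg C (n := wg C w * C.nSG i)
      (mul_mem (SteinbergChar.nw_mem C hw) (C.nS_mem_monomial i))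
      (Moves.mul C (SteinbergChar.nw_moves C hw) (Acts.moves C (C.acts_nS i)))
    have h1 : (χ c : k) • ρ (wg C (w * C.hR.sPerm i)) v = ρ (wg C w) (ρ (C.nSG i) v) := by
      rw [← ρ_mul, hc, ρ_mul, hχ, map_smul]
    suffices h2 : ρ (wg C w) (ρ (C.nSG i) v) ∈ genSpan C ρ v by
      have := Submodule.smul_mem _ ((χ c)⁻¹ : kˣ).val (h1 ▸ h2)
      rwa [smul_smul, ← Units.val_mul, inv_mul_cancel, Units.val_one, one_smul] at this
    obtain ⟨l, hl⟩ := hT i
    rw [nSG_apply C ρ hv hχ i, hl, map_sub, map_smul, map_sum]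
    refine sub_mem (Submodule.smul_mem _ _ ih) (Submodule.sum_mem _ fun a _ => ?_)
    rw [map_smul]
    refine Submodule.smul_mem _ _ ?_
    obtain ⟨t, ht⟩ := (SteinbergChar.nw_moves C hw).2 (C.pNeg i) (a : F)⁻¹
    have hneg : D.IsNegRoot (w (C.pNeg i)) := by
      rw [show ((w (C.pNeg i) : Fin D.nroots) : ℕ) = D.neg (w (C.pRoot i)) from
        C.hR.apply_neg hw (C.pRoot i), C.R.isNeg_neg_iff (w _).isLt]
      exact hi
    have he : wg C w * xg C (D.neg (D.simple i.val)) (a : F)⁻¹ = xg C (w (C.pNeg i)) t * wg C w :=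
      Subtype.ext (by
        show SteinbergChar.nw C w * C.xGL (D.neg (D.simple i.val)) (a : F)⁻¹ =
          C.xGL (w (C.pNeg i)) t * SteinbergChar.nw C w
        rw [← mul_inv_eq_iff_eq_mul]; exact ht)
    rw [← ρ_mul, he, ρ_mul]
    exact genSpan_stable C ρ v (xg_mem_UN C hneg t) ih

theorem orbit_mem_genSpan {v : V} {χ : (Fin D.rank → Fˣ) →* kˣ} (hv : FixU C ρ v)
    (hχ : EigH C ρ χ v) (hT : ∀ i, ∃ l : k, T C ρ i v = l • v) (g : ↥(D.group F)) :
    ρ g v ∈ genSpan C ρ v := by
  obtain ⟨n, u, hu, x, hx, c, hn, rfl⟩ := exists_neg_decomp C g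
  rw [ρ_mul, ρ_mul, ρ_mul, hχ, map_smul, hv x hx, map_smul, map_smul]
  refine Submodule.smul_mem _ _ (genSpan_stable C ρ v hu ?_)
  obtain ⟨w, hw, -⟩ := C.exists_moves hn
  obtain ⟨d, rfl⟩ := exists_wg C hn hw
  rw [ρ_mul, hχ, map_smul]
  exact Submodule.smul_mem _ _ (wg_mem_genSpan C ρ hv hχ hT w hw.1)

theorem genSpan_invariant {a : Fin D.rank → Option (Fˣ →* kˣ)} {v : V} (h : IsWeight C ρ a v) :
    Invariant ρ (genSpan C ρ v) := by
  intro g w hw
  induction hw using Submodule.span_induction with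
  | mem x hx =>
    obtain ⟨u', rfl⟩ := hx
    rw [← ρ_mul]
    exact orbit_mem_genSpan C ρ h.fix h.eig (fun i => ⟨_, h.hT i⟩) _
  | zero => rw [map_zero]; exact zero_mem _
  | add x y _ _ hx hy => rw [map_add]; exact add_mem hx hy
  | smul r x _ hx => rw [map_smul]; exact Submodule.smul_mem _ _ hx

theorem genSpan_eq_top (hs : IsSimp ρ) {a : Fin D.rank → Option (Fˣ →* kˣ)} {v : V}
    (h : IsWeight C ρ a v) : genSpan C ρ v = ⊤ :=
  (hs.2 _ (genSpan_invariant C ρ h)).resolve_left fun hb =>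
    h.ne ((Submodule.mem_bot k).1 (hb ▸ Submodule.subset_span ⟨1, by simp⟩))

theorem finite_of_simple (hs : IsSimp ρ) : FiniteDimensional k V := by
  obtain ⟨v, hv⟩ := @exists_ne V hs.1 0
  have hinv : Invariant ρ (Submodule.span k (Set.range fun g => ρ g v)) := by
    intro g w hw
    induction hw using Submodule.span_induction with
    | mem x hx =>
      obtain ⟨g', rfl⟩ := hx
      exact Submodule.subset_span ⟨g * g', ρ_mul ρ g g' v⟩
    | zero => rw [map_zero]; exact zero_mem _
    | add x y _ _ hx hy => rw [map_add]; exact add_mem hx hy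
    | smul r x _ hx => rw [map_smul]; exact Submodule.smul_mem _ _ hx
  have htop := (hs.2 _ hinv).resolve_left fun hb =>
    hv ((Submodule.mem_bot k).1 (hb ▸ Submodule.subset_span ⟨1, by simp⟩))
  exact ⟨htop ▸ Submodule.fg_span (Set.finite_range fun g => ρ g v)⟩

variable (p : ℕ) [Fact p.Prime] [CharP k p]

/-- `U` is a `p`-group. -/
theorem isPGroup_UP [CharP F p] : IsPGroup p (UP C) := by
  obtain ⟨n, -, hn⟩ := FiniteField.card F p
  refine IsPGroup.of_card (n := n * Set.ncard {r | D.IsPosRoot r}) ?_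
  rw [UP, Nat.card_congr (Subgroup.subgroupOfEquivOfLe (le_trans le_sup_left C.borel_le_group)).toEquiv,
    C.posUnipotent_eq, C.card_Ucl C.R.isClosed_pos, hn, pow_mul]

/-- The opposite unipotent subgroup is a `p`-group. -/
theorem isPGroup_UN [CharP F p] : IsPGroup p (UN C) := by
  have hinj : Function.Injective fun u : UN C =>
      (⟨nTopG C * u * (nTopG C)⁻¹, nTop_conj_neg C u.2⟩ : UP C) := fun a b h =>
    Subtype.ext (mul_left_cancel (mul_right_cancel (congrArg Subtype.val h)))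
  exact IsPGroup.of_injective (isPGroup_UP C p)
    (MonoidHom.mk' (fun u : UN C => (⟨nTopG C * u * (nTopG C)⁻¹, nTop_conj_neg C u.2⟩ : UP C))
      fun a b => Subtype.ext (by
        show nTopG C * ((a : ↥(D.group F)) * b) * (nTopG C)⁻¹ = _
        rw [Subgroup.coe_mul]
        group)) hinj

include hq in
/-- Every simple module has a weight vector. -/
theorem exists_weight [IsAlgClosed k] [CharP F p] (hs : IsSimp ρ) :
    ∃ a v, IsWeight C ρ a v := by
  classical
  haveI := finite_of_simple ρ hs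
  haveI := hs.1
  obtain ⟨v₀, hv₀, hfix⟩ := exists_fix_ne_zero p (isPGroup_UP C p) ρ
  let W : Submodule k V :=
    { carrier := {v | FixU C ρ v}
      add_mem' := fun {a b} ha hb u hu => by rw [map_add, ha u hu, hb u hu]
      zero_mem' := fun u _ => map_zero _
      smul_mem' := fun r a ha u hu => by rw [map_smul, ha u hu] }
  obtain ⟨m, hm, hm0, hc⟩ := exists_common_eigen (fun c : Fin D.rank → Fˣ => ρ (tg C c))
    (fun c d => by rw [Commute, SemiconjBy, ← map_mul, ← map_mul, ← map_mul, ← map_mul, mul_comm])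
    W (W.ne_bot_iff.2 ⟨v₀, hfix, hv₀⟩) (fun c w hw u hu => by
      have h1 := tg_normalizes_UP C c⁻¹ hu
      rw [map_inv, inv_inv] at h1
      rw [← ρ_mul, show u * tg C c = tg C c * ((tg C c)⁻¹ * u * tg C c) by group, ρ_mul, hw _ h1])
  choose f hf using hc
  have hf0 : ∀ c, f c ≠ 0 := fun c h => hm0 (by
    have h1 := hf c
    rw [h, zero_smul] at h1
    calc m = ρ ((tg C c)⁻¹ * tg C c) m := by rw [inv_mul_cancel, map_one, Module.End.one_apply]
      _ = 0 := by rw [ρ_mul, h1, map_zero])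
  have hχ : EigH C ρ (MonoidHom.mk' (fun c => Units.mk0 (f c) (hf0 c)) fun c d => Units.ext
      (smul_left_injective k hm0 (by
        show f (c * d) • m = (f c * f d) • m
        rw [← hf, map_mul, ρ_mul, hf d, map_smul, hf c, smul_smul, mul_comm]))) m := hf
  obtain ⟨v, hv0, hv, ⟨ψ, hψ⟩, hT⟩ := exists_eigen_of_fix C ρ hq hm hχ hm0
  obtain ⟨a, ha⟩ := exists_weight_of_eigen C ρ hq hv0 hv hψ hT
  exact ⟨a, v, ha⟩

/-- The dual representation. -/
def dualRep : ↥(D.group F) →* Module.End k (Module.Dual k V) where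
  toFun g := (ρ g⁻¹).dualMap
  map_one' := by rw [inv_one, map_one]; rfl
  map_mul' g h := by rw [mul_inv_rev, map_mul]; rfl

theorem dualRep_apply (g : ↥(D.group F)) (f : Module.Dual k V) (v : V) :
    dualRep ρ g f v = f (ρ g⁻¹ v) := rfl

theorem isSimp_dual [FiniteDimensional k V] (hs : IsSimp ρ) : IsSimp (dualRep ρ) := by
  haveI := hs.1
  refine ⟨Module.nontrivial_of_finrank_pos (R := k) (by
    rw [Subspace.dual_finrank_eq]; exact Module.finrank_pos), fun W hW => ?_⟩
  have hinv : Invariant ρ W.dualCoannihilator := by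
    intro g v hv
    rw [Submodule.mem_dualCoannihilator] at hv ⊢
    intro φ hφ
    have := hv _ (hW g⁻¹ φ hφ)
    rwa [dualRep_apply, inv_inv] at this
  have h1 : W.dualCoannihilator.dualAnnihilator = W := Subspace.dualCoannihilator_dualAnnihilator_eq
  rcases hs.2 _ hinv with h | h
  · exact Or.inr (by rw [← h1, h, Submodule.dualAnnihilator_bot])
  · exact Or.inl (by rw [← h1, h, Submodule.dualAnnihilator_top])

include hq in
theorem eq_zero_of_fix_neg [IsAlgClosed k] [CharP F p] (hs : IsSimp ρ) :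
    ∃ f : Module.Dual k V, ∀ m : V, (∀ u ∈ UN C, ρ u m = m) → f m = 0 → m = 0 := by
  haveI := finite_of_simple ρ hs
  obtain ⟨a, f, hf⟩ := exists_weight C (dualRep ρ) hq p (isSimp_dual ρ hs)
  refine ⟨f, fun m hm h0 => ?_⟩
  refine (Module.forall_dual_apply_eq_zero_iff k m).1 fun φ => ?_
  have : φ ∈ genSpan C (dualRep ρ) f := by
    rw [genSpan_eq_top C _ (isSimp_dual ρ hs) hf]; exact Submodule.mem_top
  induction this using Submodule.span_induction with
  | mem x hx =>
    obtain ⟨u, rfl⟩ := hx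
    show dualRep ρ u f m = 0
    rw [dualRep_apply, hm _ (inv_mem u.2), h0]
  | zero => rfl
  | add x y _ _ hx hy => rw [LinearMap.add_apply, hx, hy, add_zero]
  | smul r x _ hx => rw [LinearMap.smul_apply, hx, smul_zero]

include hq p in
/-- A simple module has at most one line fixed by `U`. -/
theorem fixU_line [IsAlgClosed k] [CharP F p] (hs : IsSimp ρ) {m m' : V} (hm : FixU C ρ m)
    (hm' : FixU C ρ m') (hm0 : m' ≠ 0) : ∃ c : k, m = c • m' := by
  obtain ⟨f, hf⟩ := eq_zero_of_fix_neg C ρ hq p hs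
  set n := nTopG C
  have key : ∀ x : V, FixU C ρ x → ∀ u ∈ UN C, ρ u (ρ n⁻¹ x) = ρ n⁻¹ x := by
    intro x hx u hu
    rw [← ρ_mul, show u * n⁻¹ = n⁻¹ * (n * u * n⁻¹) by group, ρ_mul, hx _ (nTop_conj_neg C hu)]
  have hinj : ∀ x : V, ρ n⁻¹ x = 0 → x = 0 := fun x hx => by
    rw [show x = ρ n (ρ n⁻¹ x) by rw [← ρ_mul, mul_inv_cancel, map_one, Module.End.one_apply], hx,
      map_zero]
  have hne : f (ρ n⁻¹ m') ≠ 0 := fun h => hm0 (hinj _ (hf _ (key _ hm') h))
  refine ⟨f (ρ n⁻¹ m) / f (ρ n⁻¹ m'), sub_eq_zero.1 (hinj _ ?_)⟩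
  refine hf _ (key _ fun u hu => by rw [map_sub, map_smul, hm u hu, hm' u hu]) ?_
  rw [map_sub, map_sub, map_smul, map_smul, smul_eq_mul, div_mul_cancel₀ _ hne, sub_self]

include hq p in
/-- The weight of a simple module is unique. -/
theorem weight_unique [IsAlgClosed k] [CharP F p] (hs : IsSimp ρ)
    {a b : Fin D.rank → Option (Fˣ →* kˣ)} {v w : V} (hv : IsWeight C ρ a v)
    (hw : IsWeight C ρ b w) : a = b := by
  obtain ⟨c, hc⟩ := fixU_line C ρ hq p hs hv.fix hw.fix hw.ne
  have hc0 : c ≠ 0 := fun h => hv.ne (by rw [hc, h, zero_smul])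
  exact hv.weight_unique C ρ (hc ▸ hw.smul C ρ hc0)

variable {W : Type*} [AddCommGroup W] [Module k W] (σ : ↥(D.group F) →* Module.End k W)

/-- The sum of two representations. -/
def prodRep : ↥(D.group F) →* Module.End k (V × W) where
  toFun g := (ρ g).prodMap (σ g)
  map_one' := by rw [map_one, map_one]; rfl
  map_mul' g h := by rw [map_mul, map_mul]; rfl

theorem prodRep_apply (g : ↥(D.group F)) (x : V × W) : prodRep ρ σ g x = (ρ g x.1, σ g x.2) := rfl

theorem exists_neg_dual [CharP F p] [FiniteDimensional k V] (hs : IsSimp ρ)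
    {a : Fin D.rank → Option (Fˣ →* kˣ)} {v : V} (h : IsWeight C ρ a v) :
    ∃ f : Module.Dual k V, f v = 1 ∧ ∀ u ∈ UN C, ∀ x : V, f (ρ u x) = f x := by
  haveI := (isSimp_dual ρ hs).1
  obtain ⟨f, hf0, hf⟩ := exists_fix_ne_zero p (isPGroup_UN C p) (dualRep ρ)
  have hinv : ∀ u ∈ UN C, ∀ x : V, f (ρ u x) = f x := by
    intro u hu x
    have := LinearMap.congr_fun (hf _ (inv_mem hu)) x
    rwa [dualRep_apply, inv_inv] at this
  have hfv : f v ≠ 0 := by
    intro h0
    refine hf0 (LinearMap.ext fun x => ?_)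
    have hx : x ∈ genSpan C ρ v := by rw [genSpan_eq_top C ρ hs h]; exact Submodule.mem_top
    induction hx using Submodule.span_induction with
    | mem x hx => obtain ⟨u, rfl⟩ := hx; exact (hinv _ u.2 v).trans h0
    | zero => simp
    | add x y _ _ hx hy => simp_all
    | smul r x _ hx => simp_all
  exact ⟨(f v)⁻¹ • f, by simp [hfv], fun u hu x => by simp [hinv u hu x]⟩

include p in
/-- Simple modules of the same weight are isomorphic. -/
theorem equiv_of_weight [CharP F p] (hs : IsSimp ρ) (hs' : IsSimp σ)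
    {a : Fin D.rank → Option (Fˣ →* kˣ)} {v : V} {w : W} (hv : IsWeight C ρ a v)
    (hw : IsWeight C σ a w) : ∃ L : V ≃ₗ[k] W, ∀ g x, L (ρ g x) = σ g (L x) := by
  haveI := finite_of_simple ρ hs
  haveI := finite_of_simple σ hs'
  have hz : IsWeight C (prodRep ρ σ) a (v, w) := by
    refine ⟨fun h => hv.ne (congrArg Prod.fst h), fun u hu => ?_, fun c => ?_, fun i => ?_⟩
    · rw [prodRep_apply, hv.fix u hu, hw.fix u hu]
    · rw [prodRep_apply, hv.eig c, hw.eig c, Prod.smul_mk]
    · rw [Prod.smul_mk, ← hv.hT i, ← hw.hT i]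
      simp only [T, prodRep_apply]
      ext <;> simp [Prod.fst_sum, Prod.snd_sum]
  set N := genSpan C (prodRep ρ σ) (v, w)
  have hN : Invariant (prodRep ρ σ) N := genSpan_invariant C _ hz
  have hzN : (v, w) ∈ N := Submodule.subset_span ⟨1, by simp [prodRep_apply]⟩
  obtain ⟨f, hf1, hf⟩ := exists_neg_dual C ρ p hs hv
  obtain ⟨f', hf1', hf'⟩ := exists_neg_dual C σ p hs' hw
  have heq : ∀ x ∈ N, f x.1 = f' x.2 := by
    intro x hx
    induction hx using Submodule.span_induction with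
    | mem x hx =>
      obtain ⟨u, rfl⟩ := hx
      simp only [prodRep_apply, hf _ u.2, hf' _ u.2, hf1, hf1']
    | zero => simp
    | add x y _ _ hx hy => simp [hx, hy]
    | smul r x _ hx => simp [hx]
  have hl : ∀ x : V, (x, (0 : W)) ∈ N → x = 0 := by
    intro x hx
    rcases hs.2 (N.comap (LinearMap.inl k V W)) (fun g y hy => by
      show (ρ g y, (0 : W)) ∈ N
      simpa [prodRep_apply] using hN g _ hy) with h | h
    · exact (Submodule.mem_bot k).1 (h ▸ (show x ∈ N.comap (LinearMap.inl k V W) from hx))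
    · have := heq _ (show (v, (0 : W)) ∈ N from
        (h.symm ▸ Submodule.mem_top : v ∈ N.comap (LinearMap.inl k V W)))
      simp [hf1] at this
  have hr : ∀ y : W, ((0 : V), y) ∈ N → y = 0 := by
    intro y hy
    rcases hs'.2 (N.comap (LinearMap.inr k V W)) (fun g z hz' => by
      show ((0 : V), σ g z) ∈ N
      simpa [prodRep_apply] using hN g _ hz') with h | h
    · exact (Submodule.mem_bot k).1 (h ▸ (show y ∈ N.comap (LinearMap.inr k V W) from hy))
    · have := heq _ (show ((0 : V), w) ∈ N from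
        (h.symm ▸ Submodule.mem_top : w ∈ N.comap (LinearMap.inr k V W)))
      simp [hf1'] at this
  have hfst : Function.Bijective ((LinearMap.fst k V W).comp N.subtype) := by
    refine ⟨LinearMap.ker_eq_bot.1 (Submodule.eq_bot_iff _ |>.2 ?_), LinearMap.range_eq_top.1 ?_⟩
    · rintro ⟨⟨x, y⟩, hxy⟩ h
      simp only [LinearMap.mem_ker, LinearMap.comp_apply, Submodule.coe_subtype, LinearMap.fst_apply] at h
      subst h
      exact Subtype.ext (Prod.ext rfl (hr y hxy))
    · refine (hs.2 _ ?_).resolve_left fun h => hv.ne ((Submodule.mem_bot k).1 (h ▸ ⟨⟨_, hzN⟩, rfl⟩))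
      rintro g _ ⟨x, rfl⟩
      exact ⟨⟨_, hN g _ x.2⟩, rfl⟩
  have hsnd : Function.Bijective ((LinearMap.snd k V W).comp N.subtype) := by
    refine ⟨LinearMap.ker_eq_bot.1 (Submodule.eq_bot_iff _ |>.2 ?_), LinearMap.range_eq_top.1 ?_⟩
    · rintro ⟨⟨x, y⟩, hxy⟩ h
      simp only [LinearMap.mem_ker, LinearMap.comp_apply, Submodule.coe_subtype, LinearMap.snd_apply] at h
      subst h
      exact Subtype.ext (Prod.ext (hl x hxy) rfl)
    · refine (hs'.2 _ ?_).resolve_left fun h => hw.ne ((Submodule.mem_bot k).1 (h ▸ ⟨⟨_, hzN⟩, rfl⟩))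
      rintro g _ ⟨x, rfl⟩
      exact ⟨⟨_, hN g _ x.2⟩, rfl⟩
  refine ⟨(LinearEquiv.ofBijective _ hfst).symm.trans (LinearEquiv.ofBijective _ hsnd), fun g x => ?_⟩
  obtain ⟨z, rfl⟩ := (LinearEquiv.ofBijective _ hfst).surjective x
  have h1 : ρ g ((LinearEquiv.ofBijective _ hfst) z) =
      (LinearEquiv.ofBijective _ hfst) ⟨_, hN g _ z.2⟩ := rfl
  rw [h1, LinearEquiv.trans_apply, LinearEquiv.trans_apply, LinearEquiv.symm_apply_apply,
    LinearEquiv.symm_apply_apply]
  rfl

end CfsgLib.SimpleCount
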