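import Cfsg.Agent.Lib.SimpleCount.Levi
import Cfsg.Agent.Lib.SimpleCount.Weight

/-!
Every weight occurs: a vector of given weight in the functions on the group, supported on the top
cells of a standard parabolic subgroup.
-/

set_option autoImplicit false

namespace CfsgLib.SimpleCount

open Cfsg.Lie CfsgLib.ChevStr CfsgLib.ChevStr.ChevCore
open scoped MatrixGroups

variable {D : ChevalleyDatum} {F : Type*} [Field F] (C : ChevCore D F) {k : Type*} [Field k]

/-- The regular representation on functions. -/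
def regRep {G : Type*} [Group G] : G →* Module.End k (G → k) where
  toFun g :=
    { toFun := fun f x => f (x * g)
      map_add' := fun _ _ => rfl
      map_smul' := fun _ _ => rfl }
  map_one' := LinearMap.ext fun f => funext fun x => by simp
  map_mul' g h := LinearMap.ext fun f => funext fun x => by simp [mul_assoc]

theorem regRep_apply {G : Type*} [Group G] (g : G) (f : G → k) (x : G) :
    regRep g f x = f (x * g) := rfl

/-- Every element is `u h n v` with `u, v ∈ U`. -/
theorem exists_double_form (g : ↥(D.group F)) : ∃ u ∈ UP C, ∃ c, ∃ n : ↥(D.group F),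
    (n : GL D.Idx F) ∈ D.monomialSubgroup F ∧ ∃ v ∈ UP C, g = u * tg C c * n * v := by
  obtain ⟨n, hn, hcell⟩ := C.exists_bigCell g.2
  obtain ⟨a, ha, b, hb, hg⟩ := C.mem_bigCell.1 hcell
  obtain ⟨u, hu, c, rfl⟩ := C.mem_borel.1 ha
  obtain ⟨v, hv, d, rfl⟩ := C.mem_borel.1 hb
  have hdm : C.R.torus d ∈ D.diagonalSubgroup F := by rw [C.diagonalSubgroup_eq]; exact ⟨d, rfl⟩
  have hv' : (C.R.torus d)⁻¹ * v * C.R.torus d ∈ D.posUnipotent F := by
    have := (Subgroup.mem_normalizer_iff.1 (C.diagonal_normalizes_pos (inv_mem hdm)) v).1 hv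
    rwa [inv_inv] at this
  refine ⟨⟨u, C.borel_le_group (le_sup_left (b := D.diagonalSubgroup F) hu)⟩, hu, c,
    ⟨n * C.R.torus d, C.monomial_le_group (mul_mem hn (C.torus_mem_monomial d))⟩,
    mul_mem hn (C.torus_mem_monomial d),
    ⟨_, C.borel_le_group (le_sup_left (b := D.diagonalSubgroup F) hv')⟩, hv', Subtype.ext ?_⟩
  show (g : GL D.Idx F) =
    u * C.R.torus c * (n * C.R.torus d) * ((C.R.torus d)⁻¹ * v * C.R.torus d)
  rw [hg]
  group

variable (R : Set (Fin D.rank))

/-- `g` lies in a top cell of the parabolic subgroup of `R`, with torus coordinate `c`. -/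
def Good (g : GL D.Idx F) (c : Fin D.rank → Fˣ) : Prop :=
  ∃ u ∈ D.posUnipotent F, ∃ n ∈ NR C R, ∃ v ∈ D.posUnipotent F,
    g = u * C.R.torus c * (n * nTop C) * v

theorem good_mono {m : GL D.Idx F} {c : Fin D.rank → Fˣ} (hm : m ∈ D.monomialSubgroup F)
    (h : Good C R m c) : ∃ c', ∃ n ∈ NR C R, m = C.R.torus c' * (n * nTop C) := by
  obtain ⟨u, hu, n, hn, v, hv, hg⟩ := h
  obtain ⟨w, hw, -⟩ := C.exists_moves hm
  obtain ⟨w', hw', -⟩ := C.exists_moves (mul_mem (NR_le_monomial C R hn) (nTop_mem C))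
  have hmem := mul_mem (NR_le_monomial C R hn) (nTop_mem C)
  have hcell : m ∈ C.bigCell (n * nTop C) := C.mem_bigCell.2
    ⟨u * C.R.torus c, mul_mem (le_sup_left (b := D.diagonalSubgroup F) hu) (C.torus_mem_borel c),
      v, le_sup_left (b := D.diagonalSubgroup F) hv, hg⟩
  obtain rfl := C.moves_eq_of_mem hm hmem hw hw' hcell
  have h1 := Moves.mul C hw (Moves.inv C hmem hw')
  rw [mul_inv_cancel] at h1
  have h2 := C.mem_diagonal_of_moves_one (mul_mem hm (inv_mem hmem)) h1
  rw [C.diagonalSubgroup_eq] at h2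
  obtain ⟨c', hc'⟩ := h2
  exact ⟨c', n, hn, by rw [hc', inv_mul_cancel_right]⟩

theorem good_torus_mul {c : Fin D.rank → Fˣ} {n : GL D.Idx F} (hn : n ∈ NR C R) :
    Good C R (C.R.torus c * (n * nTop C)) c :=
  ⟨1, one_mem _, n, hn, 1, one_mem _, by group⟩

/-- The function supported on the top cells. -/
noncomputable def phi (ψ : (Fin D.rank → Fˣ) →* kˣ) (g : ↥(D.group F)) : k := by
  classical exact if h : ∃ c, Good C R (g : GL D.Idx F) c then (ψ h.choose : k) else 0

theorem phi_not (ψ : (Fin D.rank → Fˣ) →* kˣ) {g : ↥(D.group F)}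
    (h : ¬ ∃ c, Good C R (g : GL D.Idx F) c) : phi C R ψ g = 0 := by
  rw [phi, dif_neg h]

/-- On the cells of the support, an ascent in the complement of `R` is a descent. -/
theorem good_neg {m : GL D.Idx F} (hm : m ∈ D.monomialSubgroup F) {w : Equiv.Perm (Fin D.nroots)}
    (hw : C.Moves m w) (h : ∃ c, Good C R m c) {i : Fin D.rank} (hi : bar C i ∉ R) :
    D.IsNegRoot (w (C.pRoot i)) := by
  obtain ⟨c, hc⟩ := h
  obtain ⟨c', n, hn, rfl⟩ := good_mono C R hm hc
  obtain ⟨v, hv, -⟩ := C.exists_moves (NR_le_monomial C R hn)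
  obtain rfl : 1 * (v * wLong C) = w := Moves.unique C
    (Moves.mul C (C.moves_torus c') (Moves.mul C hv (Acts.moves C (nTop_acts C)))) hw
  rw [one_mul, Equiv.Perm.mul_apply, wLong_pRoot]
  refine (C.R.pos_or_neg (Fin.isLt _)).resolve_left fun hp => ?_
  have h1 := ((C.R.isPos_iff _).1 hp).2 (bar C i)
  rw [coef_NR C R hn hv _ hi] at h1
  change 0 ≤ C.R.α (D.neg (D.simple (bar C i).val)) (bar C i) at h1
  rw [C.R.α_neg _ (C.R.simple_lt _), Pi.neg_apply, C.R.α_simple, Pi.single_eq_same] at h1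
  omega

variable [Fintype F] (hinj : Function.Injective (C.R.torus (F := F)))
  (p : ℕ) [Fact p.Prime] [CharP F p]

omit [Fintype F] in
theorem pow_mul_torus {x : GL D.Idx F} (hx : x ∈ D.posUnipotent F) (d : Fin D.rank → Fˣ) :
    ∀ N : ℕ, ∃ y ∈ D.posUnipotent F, (x * C.R.torus d) ^ N = y * C.R.torus (d ^ N) := by
  intro N
  induction N with
  | zero => exact ⟨1, one_mem _, by simp⟩
  | succ N ih =>
    obtain ⟨y, hy, he⟩ := ih
    have hdm : C.R.torus (d ^ N) ∈ D.diagonalSubgroup F := by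
      rw [C.diagonalSubgroup_eq]; exact ⟨_, rfl⟩
    refine ⟨y * (C.R.torus (d ^ N) * x * (C.R.torus (d ^ N))⁻¹), mul_mem hy
      ((Subgroup.mem_normalizer_iff.1 (C.diagonal_normalizes_pos hdm) x).1 hx), ?_⟩
    rw [pow_succ, he, pow_succ, map_mul]
    group

include hinj p in
theorem good_unique {k : Type*} [CommMonoid k] (ψ : (Fin D.rank → Fˣ) →* k)
    (hψ : ∀ i ∈ R, ∀ t : Fˣ, ψ (Pi.mulSingle i t) = 1) {g : GL D.Idx F} {c c' : Fin D.rank → Fˣ}
    (h : Good C R g c) (h' : Good C R g c') : ψ c = ψ c' := by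
  obtain ⟨u, hu, n, hn, v, hv, hg⟩ := h
  obtain ⟨u', hu', n', hn', v', hv', hg'⟩ := h'
  set m := n * nTop C with hm
  have hmem := mul_mem (NR_le_monomial C R hn) (nTop_mem C)
  have hmem' := mul_mem (NR_le_monomial C R hn') (nTop_mem C)
  obtain ⟨w, hw, -⟩ := C.exists_moves hmem
  obtain ⟨w', hw', -⟩ := C.exists_moves hmem'
  have hcell : ∀ {u v : GL D.Idx F} {c} {m : GL D.Idx F}, u ∈ D.posUnipotent F → v ∈ D.posUnipotent F →
      g = u * C.R.torus c * m * v → g ∈ C.bigCell m := fun {u v c m} hu hv h => C.mem_bigCell.2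
    ⟨u * C.R.torus c, mul_mem (le_sup_left (b := D.diagonalSubgroup F) hu) (C.torus_mem_borel c),
      v, le_sup_left (b := D.diagonalSubgroup F) hv, h⟩
  obtain rfl := C.moves_eq_of_mem hmem hmem' hw hw'
    (C.bigCell_trans (C.bigCell_symm (hcell hu hv hg)) (hcell hu' hv' hg'))
  have h1 : C.Moves (n' * n⁻¹) 1 := by
    have h0 := Moves.mul C hw' (Moves.inv C hmem hw)
    rw [mul_inv_cancel, show n' * nTop C * (n * nTop C)⁻¹ = n' * n⁻¹ by group] at h0
    exact h0
  obtain ⟨d, hd, hdd⟩ := eq_torus_of_moves_one C R (mul_mem hn' (inv_mem hn)) h1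
  have hm' : n' * nTop C = C.R.torus d * m := by
    rw [hm, ← mul_assoc, ← hdd, inv_mul_cancel_right]
  rw [hm'] at hg'
  set y := v' * v⁻¹ with hy
  set e := c * (c' * d)⁻¹ with he
  have hyU : y ∈ D.posUnipotent F := mul_mem hv' (inv_mem hv)
  have hdm : C.R.torus (c' * d) ∈ D.diagonalSubgroup F := by
    rw [C.diagonalSubgroup_eq]; exact ⟨_, rfl⟩
  set x := (C.R.torus (c' * d))⁻¹ * (u'⁻¹ * u) * C.R.torus (c' * d) with hx
  have hxU : x ∈ D.posUnipotent F := by
    have := (Subgroup.mem_normalizer_iff.1 (C.diagonal_normalizes_pos (inv_mem hdm)) _).1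
      (mul_mem (inv_mem hu') hu)
    rwa [inv_inv] at this
  have hkey : x * C.R.torus e = m * y * m⁻¹ := by
    have h2 : u * C.R.torus c * m * v = u' * C.R.torus (c' * d) * m * v' := by
      rw [← hg, hg', map_mul]; group
    have h3 : u'⁻¹ * (u * C.R.torus c) = C.R.torus (c' * d) * (m * y * m⁻¹) := by
      calc u'⁻¹ * (u * C.R.torus c) = u'⁻¹ * (u * C.R.torus c * m * v) * v⁻¹ * m⁻¹ := by group
        _ = _ := by rw [h2, hy]; group
    have he' : C.R.torus e = (C.R.torus (c' * d))⁻¹ * C.R.torus c := by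
      rw [he, mul_comm, map_mul, map_inv]
    calc x * C.R.torus e = (C.R.torus (c' * d))⁻¹ * (u'⁻¹ * (u * C.R.torus c)) := by
          rw [hx, he']; group
      _ = _ := by rw [h3, inv_mul_cancel_left]
  set N := Nat.card ↥(D.posUnipotent F) with hN
  have hyN : y ^ N = 1 := by
    have := pow_card_eq_one' (x := (⟨y, hyU⟩ : ↥(D.posUnipotent F)))
    exact congrArg Subtype.val this
  obtain ⟨z, hz, hzN⟩ := pow_mul_torus C hxU e N
  rw [hkey, conj_pow, hyN, mul_one, mul_inv_cancel] at hzN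
  have h4 : C.R.torus (e ^ N) = z⁻¹ := eq_inv_of_mul_eq_one_right hzN.symm
  have h5 : C.R.torus (e ^ N) = 1 := (Subgroup.eq_bot_iff_forall _).1 C.posUnipotent_inf_diagonal _
    (Subgroup.mem_inf.2 ⟨h4 ▸ inv_mem hz, by rw [C.diagonalSubgroup_eq]; exact ⟨_, rfl⟩⟩)
  have h6 : e ^ N = 1 := hinj (by rw [h5, map_one])
  have h7 : e ^ (Fintype.card F - 1) = 1 := by
    classical
    funext i
    rw [Pi.pow_apply, ← Fintype.card_units, pow_card_eq_one, Pi.one_apply]
  obtain ⟨f, -, hf⟩ := FiniteField.card F p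
  have hN' : N = p ^ ((f : ℕ) * Set.ncard {r | D.IsPosRoot r}) := by
    rw [hN, C.posUnipotent_eq, C.card_Ucl C.R.isClosed_pos, hf, pow_mul]
  have hcop : Nat.gcd N (Fintype.card F - 1) = 1 := by
    rw [hN']
    refine Nat.Coprime.pow_left _ ((Fact.out : p.Prime).coprime_iff_not_dvd.2 fun hd' => ?_)
    have h8 : p ∣ Fintype.card F := by rw [hf]; exact dvd_pow_self _ f.pos.ne'
    have h9 := Nat.dvd_sub h8 hd'
    rw [Nat.sub_sub_self Fintype.card_pos] at h9
    exact (Fact.out : p.Prime).not_dvd_one h9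
  have he1 : e = 1 := by
    have := (pow_gcd_eq_one (a := e) (m := N) (n := Fintype.card F - 1)).2 ⟨h6, h7⟩
    rwa [hcop, pow_one] at this
  rw [he, mul_inv_eq_one] at he1
  rw [he1, map_mul, char_supp_eq_one R ψ hψ hd, mul_one]

omit [Fintype F] in
theorem good_pos_mul {g u : GL D.Idx F} {c : Fin D.rank → Fˣ} (hu : u ∈ D.posUnipotent F)
    (h : Good C R g c) : Good C R (u * g) c := by
  obtain ⟨u', hu', n, hn, v, hv, rfl⟩ := h
  exact ⟨u * u', mul_mem hu hu', n, hn, v, hv, by group⟩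

omit [Fintype F] in
theorem good_mul_pos {g u : GL D.Idx F} {c : Fin D.rank → Fˣ} (hu : u ∈ D.posUnipotent F)
    (h : Good C R g c) : Good C R (g * u) c := by
  obtain ⟨u', hu', n, hn, v, hv, rfl⟩ := h
  exact ⟨u', hu', n, hn, v * u, mul_mem hv hu, by group⟩

omit [Fintype F] in
theorem good_torus_left {g : GL D.Idx F} {c : Fin D.rank → Fˣ} (d : Fin D.rank → Fˣ)
    (h : Good C R g c) : Good C R (C.R.torus d * g) (d * c) := by
  obtain ⟨u, hu, n, hn, v, hv, rfl⟩ := h
  have hdm : C.R.torus d ∈ D.diagonalSubgroup F := by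
    rw [C.diagonalSubgroup_eq]; exact ⟨_, rfl⟩
  refine ⟨C.R.torus d * u * (C.R.torus d)⁻¹,
    (Subgroup.mem_normalizer_iff.1 (C.diagonal_normalizes_pos hdm) u).1 hu, n, hn, v, hv, ?_⟩
  rw [map_mul]
  group

omit [Fintype F] in
theorem good_torus_right {k : Type*} [CommMonoid k] (ψ : (Fin D.rank → Fˣ) →* k)
    (hψ : ∀ i ∈ R, ∀ t : Fˣ, ψ (Pi.mulSingle i t) = 1) {g : GL D.Idx F} {c : Fin D.rank → Fˣ}
    (d : Fin D.rank → Fˣ) (h : Good C R g c) :
    ∃ c', Good C R (g * C.R.torus d) c' ∧ ψ c' = ψ (topMap C d) * ψ c := by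
  obtain ⟨u, hu, n, hn, v, hv, rfl⟩ := h
  obtain ⟨d', hd', hψd⟩ := conj_char C R ψ hψ hn (topMap C d)
  have hdm : C.R.torus d ∈ D.diagonalSubgroup F := by
    rw [C.diagonalSubgroup_eq]; exact ⟨_, rfl⟩
  refine ⟨c * d', ⟨u, hu, n, hn, (C.R.torus d)⁻¹ * v * C.R.torus d, ?_, ?_⟩, by
    rw [map_mul, hψd, mul_comm]⟩
  · have := (Subgroup.mem_normalizer_iff.1 (C.diagonal_normalizes_pos (inv_mem hdm)) v).1 hv
    rwa [inv_inv] at this
  · rw [map_mul]
    calc u * C.R.torus c * (n * nTop C) * v * C.R.torus d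
        = u * C.R.torus c * (n * (nTop C * C.R.torus d)) *
            ((C.R.torus d)⁻¹ * v * C.R.torus d) := by group
      _ = u * C.R.torus c * (n * C.R.torus (topMap C d) * nTop C) *
            ((C.R.torus d)⁻¹ * v * C.R.torus d) := by rw [nTop_torus]; group
      _ = _ := by rw [hd']; group

variable (ψ : (Fin D.rank → Fˣ) →* kˣ) (hψ : ∀ i ∈ R, ∀ t : Fˣ, ψ (Pi.mulSingle i t) = 1)

include hinj p hψ

theorem phi_good {g : ↥(D.group F)} {c : Fin D.rank → Fˣ} (h : Good C R (g : GL D.Idx F) c) :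
    phi C R ψ g = (ψ c : k) := by
  have hex : ∃ c, Good C R (g : GL D.Idx F) c := ⟨c, h⟩
  rw [phi, dif_pos hex, good_unique C R hinj p ψ hψ hex.choose_spec h]

theorem phi_pos_mul {u : ↥(D.group F)} (hu : u ∈ UP C) (g : ↥(D.group F)) :
    phi C R ψ (u * g) = phi C R ψ g := by
  by_cases h : ∃ c, Good C R (g : GL D.Idx F) c
  · obtain ⟨c, hc⟩ := h
    rw [phi_good C R hinj p ψ hψ hc, phi_good C R hinj p ψ hψ (g := u * g) (good_pos_mul C R hu hc)]
  · rw [phi_not C R ψ h, phi_not C R ψ]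
    rintro ⟨c, hc⟩
    exact h ⟨c, by simpa using good_pos_mul C R (inv_mem hu) hc⟩

theorem phi_mul_pos {u : ↥(D.group F)} (hu : u ∈ UP C) (g : ↥(D.group F)) :
    phi C R ψ (g * u) = phi C R ψ g := by
  by_cases h : ∃ c, Good C R (g : GL D.Idx F) c
  · obtain ⟨c, hc⟩ := h
    rw [phi_good C R hinj p ψ hψ hc, phi_good C R hinj p ψ hψ (g := g * u) (good_mul_pos C R hu hc)]
  · rw [phi_not C R ψ h, phi_not C R ψ]
    rintro ⟨c, hc⟩
    exact h ⟨c, by simpa [mul_assoc] using good_mul_pos C R (inv_mem hu) hc⟩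

theorem phi_torus_mul (d : Fin D.rank → Fˣ) (g : ↥(D.group F)) :
    phi C R ψ (tg C d * g) = (ψ d : k) * phi C R ψ g := by
  by_cases h : ∃ c, Good C R (g : GL D.Idx F) c
  · obtain ⟨c, hc⟩ := h
    rw [phi_good C R hinj p ψ hψ hc,
      phi_good C R hinj p ψ hψ (g := tg C d * g) (good_torus_left C R d hc), map_mul, Units.val_mul]
  · rw [phi_not C R ψ h, mul_zero, phi_not C R ψ]
    rintro ⟨c, hc⟩
    exact h ⟨_, by simpa using good_torus_left C R d⁻¹ hc⟩

theorem phi_mul_torus (d : Fin D.rank → Fˣ) (g : ↥(D.group F)) :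
    phi C R ψ (g * tg C d) = (ψ (topMap C d) : k) * phi C R ψ g := by
  by_cases h : ∃ c, Good C R (g : GL D.Idx F) c
  · obtain ⟨c, hc⟩ := h
    obtain ⟨c', hc', hval⟩ := good_torus_right C R ψ hψ d hc
    rw [phi_good C R hinj p ψ hψ hc, phi_good C R hinj p ψ hψ (g := g * tg C d) hc', hval,
      Units.val_mul]
  · rw [phi_not C R ψ h, mul_zero, phi_not C R ψ]
    rintro ⟨c, hc⟩
    obtain ⟨c', hc', -⟩ := good_torus_right C R ψ hψ d⁻¹ hc
    exact h ⟨c', by simpa [mul_assoc] using hc'⟩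

variable (hq : ((Fintype.card F : ℕ) : k) = 0)

include hq

/-- `T_i` on the function of the top cells, at a monomial element. -/
theorem T_phi_mono (i : Fin D.rank) (χ : (Fin D.rank → Fˣ) →* kˣ) (hχ : χ = ψ.comp (topMap C))
    {m : ↥(D.group F)} (hm : (m : GL D.Idx F) ∈ D.monomialSubgroup F)
    [Decidable (bar C i ∈ R)] :
    T C regRep i (phi C R ψ) m = (if bar C i ∈ R then 0 else sig χ i) * phi C R ψ m := by
  classical
  obtain ⟨w, hw, -⟩ := C.exists_moves hm
  have hmn : ((m * C.nSG i : ↥(D.group F)) : GL D.Idx F) ∈ D.monomialSubgroup F :=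
    mul_mem hm (C.nS_mem_monomial i)
  rcases C.R.pos_or_neg (w (C.pRoot i)).isLt with hp | hn
  · have h1 : ∀ t : F, regRep (xg C (D.simple i.val) t * C.nSG i) (phi C R ψ) m =
        phi C R ψ (m * C.nSG i) := by
      intro t
      obtain ⟨s, hs⟩ := hw.2 (C.pRoot i) t
      rw [regRep_apply, show m * (xg C (D.simple i.val) t * C.nSG i) =
        xg C (w (C.pRoot i)) s * (m * C.nSG i) from Subtype.ext (by
          show (m : GL D.Idx F) * (C.xGL (D.simple i.val) t * C.nS i) =
            C.xGL (w (C.pRoot i)) s * ((m : GL D.Idx F) * C.nS i)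
          rw [← mul_assoc, ← mul_assoc]
          congr 1
          rw [← mul_inv_eq_iff_eq_mul]; exact hs), phi_pos_mul C R hinj p ψ hψ (xg_mem_UP C hp s)]
    have h2 : T C regRep i (phi C R ψ) m = 0 := by
      rw [T, Finset.sum_apply, Finset.sum_congr rfl (fun t _ => h1 t), Finset.sum_const,
        Finset.card_univ, nsmul_eq_mul, hq, zero_mul]
    rw [h2]
    split_ifs with hR
    · rw [zero_mul]
    · rw [phi_not C R ψ (fun h => C.R.not_pos_and_neg hp (good_neg C R hm hw h hR)), mul_zero]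
  · have hpn : D.IsPosRoot (w (C.pNeg i)) := by
      rw [show ((w (C.pNeg i) : Fin D.nroots) : ℕ) = D.neg (w (C.pRoot i)) from
        C.hR.apply_neg hw.1 (C.pRoot i), C.R.isPos_neg_iff (w _).isLt]
      exact hn
    have h1 : ∀ a : Fˣ, regRep (xg C (D.simple i.val) (a : F) * C.nSG i) (phi C R ψ) m =
        (χ (Pi.mulSingle i (-a)) : k) * phi C R ψ m := by
      intro a
      obtain ⟨s, hs⟩ := hw.2 (C.pNeg i) (a : F)⁻¹
      have he : m * (xg C (D.simple i.val) (a : F) * C.nSG i) =
          xg C (w (C.pNeg i)) s *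
            (m * xg C (D.simple i.val) (-(a : F)) * tg C (Pi.mulSingle i (-a))) := by
        rw [xg_mul_nSG]
        have hs' : m * xg C (D.neg (D.simple i.val)) (a : F)⁻¹ = xg C (w (C.pNeg i)) s * m :=
          Subtype.ext (by
            show (m : GL D.Idx F) * C.xGL (D.neg (D.simple i.val)) (a : F)⁻¹ =
              C.xGL (w (C.pNeg i)) s * (m : GL D.Idx F)
            rw [← mul_inv_eq_iff_eq_mul]; exact hs)
        rw [← mul_assoc, ← mul_assoc, hs']
        group
      rw [regRep_apply, he, phi_pos_mul C R hinj p ψ hψ (xg_mem_UP C hpn s),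
        phi_mul_torus C R hinj p ψ hψ,
        phi_mul_pos C R hinj p ψ hψ (xg_mem_UP C (C.R.simple_pos i) _), hχ]
      rfl
    have h2 : T C regRep i (phi C R ψ) m =
        phi C R ψ (m * C.nSG i) + sig χ i * phi C R ψ m := by
      rw [T, Finset.sum_apply, sum_eq_zero_add (fun t => regRep (xg C (D.simple i.val) t * C.nSG i)
        (phi C R ψ) m), Finset.sum_congr rfl (fun a _ => h1 a), ← Finset.sum_mul, sum_char hq,
        regRep_apply, xg_zero, one_mul]
    rw [h2]
    split_ifs with hR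
    · obtain ⟨hi1, e, he⟩ := exists_nTop_conj C i
      have hsig : sig χ i = -1 := by
        rw [sig, if_pos]
        intro t
        rw [hχ, MonoidHom.comp_apply]
        refine char_supp_eq_one R ψ hψ fun k hk => ?_
        show ((Pi.mulSingle i t : Fin D.rank → Fˣ) ((bar C).symm k))⁻¹ = 1
        rw [Pi.mulSingle_eq_of_ne (fun e => hk (by
          rw [show k = bar C i by rw [← e, Equiv.apply_symm_apply]]; exact hR)), inv_one]
      have hx : C.R.torusSingle (bar C i) e * C.nS (bar C i) ∈ NR C R :=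
        mul_mem (torus_mem_NR C R (single_mem_suppSub R hR e)) (nS_mem_NR C R hR)
      rw [hsig, zero_mul]
      by_cases h : ∃ c, Good C R (m : GL D.Idx F) c
      · obtain ⟨c, hc⟩ := h
        obtain ⟨c', n, hnR, hmeq⟩ := good_mono C R hm hc
        have hg2 : Good C R ((m * C.nSG i : ↥(D.group F)) : GL D.Idx F) c' := by
          rw [Subgroup.coe_mul, coe_nSG, hmeq, show C.R.torus c' * (n * nTop C) * C.nS i =
            C.R.torus c' * (n * (C.R.torusSingle (bar C i) e * C.nS (bar C i)) * nTop C) by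
              rw [← he]; group]
          exact good_torus_mul C R (mul_mem hnR hx)
        rw [phi_good C R hinj p ψ hψ hg2,
          phi_good C R hinj p ψ hψ (g := m) (c := c') (hmeq ▸ good_torus_mul C R hnR)]
        ring
      · rw [phi_not C R ψ h, mul_zero, add_zero, phi_not C R ψ]
        rintro ⟨c, hc⟩
        obtain ⟨c', n, hnR, hmeq⟩ := good_mono C R hmn hc
        refine h ⟨c', ?_⟩
        have h3 : (m : GL D.Idx F) = C.R.torus c' *
            (n * (C.R.torusSingle (bar C i) e * C.nS (bar C i))⁻¹ * nTop C) := by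
          rw [Subgroup.coe_mul, coe_nSG] at hmeq
          rw [← he, eq_mul_inv_of_mul_eq hmeq]
          group
        rw [h3]
        exact good_torus_mul C R (mul_mem hnR (inv_mem hx))
    · rw [phi_not C R ψ (g := m * C.nSG i) (fun h => ?_), zero_add]
      have h3 := good_neg C R hmn (Moves.mul C hw (Acts.moves C (C.acts_nS i))) h hR
      rw [Equiv.Perm.mul_apply, C.sPerm_pRoot] at h3
      exact C.R.not_pos_and_neg hpn h3

omit hinj hψ ψ R hq in
/-- Every weight occurs in the regular representation. -/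
theorem exists_phi_weight (hinj : Function.Injective (C.R.torus (F := F)))
    (hq : ((Fintype.card F : ℕ) : k) = 0) (a : Fin D.rank → Option (Fˣ →* kˣ)) :
    ∃ v : ↥(D.group F) → k, IsWeight C regRep a v := by
  classical
  let R : Set (Fin D.rank) := {j | a ((bar C).symm j) = some 1}
  let inv' : (Fin D.rank → Fˣ) →* (Fin D.rank → Fˣ) :=
    { toFun := fun c => fun i => (c (bar C i))⁻¹
      map_one' := by funext i; simp
      map_mul' := fun x y => by funext i; simp [mul_comm] }
  let ψ : (Fin D.rank → Fˣ) →* kˣ := (wchar a).comp inv'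
  have hχ : wchar a = ψ.comp (topMap C) := MonoidHom.ext fun c => by
    show wchar a c = wchar a (inv' (topMap C c))
    congr 1
    funext i
    simp [inv', topMap]
  have hψ : ∀ j ∈ R, ∀ t : Fˣ, ψ (Pi.mulSingle j t) = 1 := by
    intro j hj t
    have h1 : inv' (Pi.mulSingle j t) = Pi.mulSingle ((bar C).symm j) t⁻¹ := by
      funext i
      show ((Pi.mulSingle j t : Fin D.rank → Fˣ) (bar C i))⁻¹ = _
      by_cases h : i = (bar C).symm j
      · subst h; simp
      · rw [Pi.mulSingle_eq_of_ne h, Pi.mulSingle_eq_of_ne (fun e => h (by rw [← e, Equiv.symm_apply_apply])), inv_one]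
    show wchar a (inv' (Pi.mulSingle j t)) = 1
    rw [h1, wchar_single, show a ((bar C).symm j) = some 1 from hj]
    rfl
  refine ⟨phi C R ψ, ⟨fun h => ?_, fun u hu => funext fun x => ?_, fun c => funext fun x => ?_,
    fun i => funext fun x => ?_⟩⟩
  · have h1 := congrFun h (nTopG C)
    rw [phi_good C R hinj p ψ hψ (c := 1) ⟨1, one_mem _, 1, one_mem _, 1, one_mem _, by simp⟩,
      map_one, Units.val_one] at h1
    exact one_ne_zero h1
  · rw [regRep_apply, phi_mul_pos C R hinj p ψ hψ hu]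
  · rw [regRep_apply, phi_mul_torus C R hinj p ψ hψ, hχ]
    rfl
  · have hFix : FixU C regRep (phi C R ψ) :=
      fun u hu => funext fun x => by rw [regRep_apply, phi_mul_pos C R hinj p ψ hψ hu]
    have hl : (if bar C i ∈ R then 0 else sig (wchar a) i) = (wlam (a i) : k) := by
      rcases hai : a i with _ | c
      · rw [if_neg (by simp [R, hai]), sig, if_pos (fun t => by rw [wchar_single, hai]; rfl)]
        rfl
      · show _ = (0 : k)
        split_ifs with hR
        · rfl
        · rw [sig, if_neg]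
          intro hall
          refine hR ?_
          show a ((bar C).symm (bar C i)) = some 1
          rw [Equiv.symm_apply_apply, hai]
          refine congrArg some (MonoidHom.ext fun t => ?_)
          have := hall t
          rwa [wchar_single, hai] at this
    obtain ⟨u, hu, c, n, hn, v, hv, rfl⟩ := exists_double_form C x
    rw [Pi.smul_apply, smul_eq_mul, ← hl, phi_mul_pos C R hinj p ψ hψ hv]
    have h0 : T C regRep i (phi C R ψ) (u * tg C c * n * v) =
        T C regRep i (phi C R ψ) (u * tg C c * n) := by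
      have h3 := T_fix C (regRep (k := k)) hFix i v hv
      have h4 := congrFun h3 (u * tg C c * n)
      rwa [regRep_apply] at h4
    rw [h0]
    have h1 : ∀ y, phi C R ψ (u * tg C c * y) = (ψ c : k) * phi C R ψ y := fun y => by
      rw [mul_assoc, phi_pos_mul C R hinj p ψ hψ hu, phi_torus_mul C R hinj p ψ hψ]
    have h2 : T C regRep i (phi C R ψ) (u * tg C c * n) =
        (ψ c : k) * T C regRep i (phi C R ψ) n := by
      simp only [T, Finset.sum_apply, regRep_apply, Finset.mul_sum]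
      exact Finset.sum_congr rfl fun t _ => by rw [mul_assoc (u * tg C c) n, h1]
    rw [h2, h1, T_phi_mono C R hinj p ψ hψ hq i (wchar a) hχ hn]
    ring

end CfsgLib.SimpleCount
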