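import Cfsg.Agent.Lib.SimpleCount.Base

/-!
The monomial subgroup of a standard Levi subgroup meets the torus in the torus of the Levi, and
conjugation by the longest representative permutes the fundamental tori.
-/

set_option autoImplicit false

namespace CfsgLib.SimpleCount

open Cfsg.Lie CfsgLib.ChevStr CfsgLib.ChevStr.ChevCore
open scoped MatrixGroups

variable {D : ChevalleyDatum} {F : Type*} [Field F] (C : ChevCore D F)
variable (R : Set (Fin D.rank))

/-- The torus parameters supported on `R`. -/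
def suppSub : Subgroup (Fin D.rank → Fˣ) where
  carrier := {c | ∀ k, k ∉ R → c k = 1}
  one_mem' := fun _ _ => rfl
  mul_mem' := fun {a b} ha hb k hk => by simp [ha k hk, hb k hk]
  inv_mem' := fun {a} ha k hk => by simp [ha k hk]

theorem single_mem_suppSub {i : Fin D.rank} (hi : i ∈ R) (t : Fˣ) :
    Pi.mulSingle i t ∈ suppSub (F := F) R :=
  fun k hk => Pi.mulSingle_eq_of_ne (fun e => hk (by rw [e]; exact hi)) _

/-- The monomial subgroup of the Levi subgroup of `R`. -/
def NR : Subgroup (GL D.Idx F) :=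
  Subgroup.closure (C.R.torus '' (suppSub (F := F) R : Set (Fin D.rank → Fˣ)) ∪ C.nS '' R)

theorem torus_mem_NR {c : Fin D.rank → Fˣ} (hc : c ∈ suppSub R) : C.R.torus c ∈ NR C R :=
  Subgroup.subset_closure (Or.inl ⟨c, hc, rfl⟩)

theorem nS_mem_NR {i : Fin D.rank} (hi : i ∈ R) : C.nS i ∈ NR C R :=
  Subgroup.subset_closure (Or.inr ⟨i, hi, rfl⟩)

theorem NR_le_monomial : NR C R ≤ D.monomialSubgroup F := by
  refine (Subgroup.closure_le _).2 (Set.union_subset ?_ ?_)
  · rintro _ ⟨c, -, rfl⟩; exact C.torus_mem_monomial c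
  · rintro _ ⟨i, -, rfl⟩; exact C.nS_mem_monomial i

/-- The product of a word in the fundamental representatives. -/
def wordN (L : List (Fin D.rank)) : GL D.Idx F := (L.map C.nS).prod

theorem wordN_cons (i : Fin D.rank) (L : List (Fin D.rank)) :
    wordN C (i :: L) = C.nS i * wordN C L := by simp [wordN]

theorem acts_wordN (L : List (Fin D.rank)) : C.Acts (wordN C L) (C.hR.wordPerm L) := by
  induction L with
  | nil => simpa [wordN, ReflData.wordPerm] using C.acts_one
  | cons i L ih =>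
    have := Acts.mul C (C.acts_nS i) ih
    simpa [wordN_cons, ReflData.wordPerm] using this

theorem nS_mul_torus (i : Fin D.rank) (c : Fin D.rank → Fˣ) :
    C.nS i * C.R.torus c = C.R.torus (sv C i c) * C.nS i := by
  rw [sv_apply, ← C.nS_conj_torus, inv_mul_cancel_right]

theorem sv_mem_suppSub {i : Fin D.rank} (hi : i ∈ R) {c : Fin D.rank → Fˣ} (hc : c ∈ suppSub R) :
    sv C i c ∈ suppSub R :=
  mul_mem hc (single_mem_suppSub R hi _)

theorem exists_NR_form {n : GL D.Idx F} (hn : n ∈ NR C R) :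
    ∃ c ∈ suppSub R, ∃ L : List (Fin D.rank), (∀ i ∈ L, i ∈ R) ∧ n = C.R.torus c * wordN C L := by
  refine Subgroup.closure_induction_left (p := fun n _ => ∃ c ∈ suppSub R, ∃ L : List (Fin D.rank),
    (∀ i ∈ L, i ∈ R) ∧ n = C.R.torus c * wordN C L) ⟨1, one_mem _, [], by simp, by simp [wordN]⟩ ?_ ?_ hn
  · rintro x (⟨c, hc, rfl⟩ | ⟨i, hi, rfl⟩) y - ⟨d, hd, L, hL, rfl⟩
    · exact ⟨c * d, mul_mem hc hd, L, hL, by rw [map_mul, mul_assoc]⟩
    · exact ⟨_, sv_mem_suppSub C R hi hd, i :: L, by simpa [hi] using hL,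
        by rw [← mul_assoc, nS_mul_torus, wordN_cons, mul_assoc]⟩
  · rintro x (⟨c, hc, rfl⟩ | ⟨i, hi, rfl⟩) y - ⟨d, hd, L, hL, rfl⟩
    · exact ⟨c⁻¹ * d, mul_mem (inv_mem hc) hd, L, hL, by rw [map_mul, map_inv, mul_assoc]⟩
    · refine ⟨Pi.mulSingle i (-1) * sv C i d,
        mul_mem (single_mem_suppSub R hi _) (sv_mem_suppSub C R hi hd), i :: L,
        by simpa [hi] using hL, ?_⟩
      rw [nS_inv', map_mul, wordN_cons, RootData.torusSingle, mul_assoc, mul_assoc, ← mul_assoc (C.nS i),
        nS_mul_torus, mul_assoc]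

/-- The exchange condition with a correction in the torus of the Levi subgroup. -/
theorem exchange_NR {i : Fin D.rank} : ∀ L : List (Fin D.rank), (∀ j ∈ L, j ∈ R) →
    D.IsNegRoot (C.hR.wordPerm L (C.pRoot i)) →
      ∃ L' : List (Fin D.rank), L'.length + 1 = L.length ∧ (∀ j ∈ L', j ∈ R) ∧
        ∃ c ∈ suppSub R, wordN C L * C.nS i = C.R.torus c * wordN C L' := by
  intro L
  induction L with
  | nil => exact fun _ h => absurd (C.R.simple_pos i) fun hp =>
      C.R.not_pos_and_neg hp (by simpa [ReflData.wordPerm, ChevCore.pRoot] using h)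
  | cons k L ih =>
    intro hR h
    have hkR : k ∈ R := hR k (List.mem_cons_self ..)
    have hLR : ∀ j ∈ L, j ∈ R := fun j hj => hR j (List.mem_cons_of_mem _ hj)
    have hk : C.hR.wordPerm (k :: L) = C.hR.sPerm k * C.hR.wordPerm L := by
      simp [ReflData.wordPerm]
    rw [hk, Equiv.Perm.mul_apply, ReflData.sPerm_val] at h
    rcases C.R.pos_or_neg (C.hR.wordPerm L (C.pRoot i)).isLt with hv | hv
    · have he : C.hR.wordPerm L (C.pRoot i) = C.pRoot k := by
        refine Fin.ext ?_
        by_contra hne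
        exact C.R.not_pos_and_neg (C.hR.refl_pos k hv hne) h
      obtain ⟨e, he1, hconj⟩ := C.nGL_conj (acts_wordN C L) (C.pRoot i)
      rw [he] at hconj
      have he0 : (e : F) ≠ 0 := by rcases he1 with h | h <;> simp [h]
      have h1 : wordN C L * C.nS i * (wordN C L)⁻¹ = C.R.torusSingle k (Units.mk0 _ he0) * C.nS k := by
        rw [← C.nGL_simple]
        have := hconj 1
        rw [mul_one] at this
        exact this
      refine ⟨L, rfl, hLR, sv C k (Pi.mulSingle k (Units.mk0 _ he0)) * Pi.mulSingle k (-1),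
        mul_mem (sv_mem_suppSub C R hkR (single_mem_suppSub R hkR _)) (single_mem_suppSub R hkR _), ?_⟩
      calc wordN C (k :: L) * C.nS i
          = C.nS k * (wordN C L * C.nS i * (wordN C L)⁻¹) * wordN C L := by rw [wordN_cons]; group
        _ = C.nS k * C.R.torus (Pi.mulSingle k (Units.mk0 _ he0)) * C.nS k * wordN C L := by
            rw [h1, RootData.torusSingle]; group
        _ = _ := by
            rw [nS_mul_torus, mul_assoc (C.R.torus _), nS_sq, RootData.torusSingle, ← map_mul]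
    · obtain ⟨L', hlen, hL', c, hc, he⟩ := ih hLR hv
      refine ⟨k :: L', by simp [hlen], by simpa [hkR] using hL', _, sv_mem_suppSub C R hkR hc, ?_⟩
      rw [wordN_cons, wordN_cons, mul_assoc, he, ← mul_assoc, nS_mul_torus, mul_assoc]

theorem wordN_mem_torus : ∀ L : List (Fin D.rank), (∀ i ∈ L, i ∈ R) → C.hR.wordPerm L = 1 →
    ∃ c ∈ suppSub R, wordN C L = C.R.torus c := by
  intro L
  obtain ⟨n, hn⟩ : ∃ n, L.length = n := ⟨_, rfl⟩
  induction n using Nat.strong_induction_on generalizing L with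
  | _ n ih =>
    intro hR hL
    rcases List.eq_nil_or_concat L with rfl | ⟨L₀, i, rfl⟩
    · exact ⟨1, one_mem _, by simp [wordN]⟩
    · rw [List.concat_eq_append] at hL hn hR ⊢
      have hW : wordN C (L₀ ++ [i]) = wordN C L₀ * C.nS i := by simp [wordN]
      have hP : C.hR.wordPerm (L₀ ++ [i]) = C.hR.wordPerm L₀ * C.hR.sPerm i := by
        simp [ReflData.wordPerm]
      have h0R : ∀ j ∈ L₀, j ∈ R := fun j hj => hR j (List.mem_append_left _ hj)
      have hneg : D.IsNegRoot (C.hR.wordPerm L₀ (C.pRoot i)) := by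
        have h0 : C.hR.wordPerm L₀ = C.hR.sPerm i := by
          rw [hP] at hL
          rw [← mul_one (C.hR.wordPerm L₀), ← C.hR.sPerm_mul_self i, ← mul_assoc, hL, one_mul]
        rw [h0, C.sPerm_pRoot]
        exact (C.R.isNeg_neg_iff (C.R.simple_lt i)).2 (C.R.simple_pos i)
      obtain ⟨L', hlen, hL', c, hc, he⟩ := exchange_NR C R L₀ h0R hneg
      have hperm : C.hR.wordPerm L' = 1 := by
        have h1 := Moves.mul C (C.moves_torus c) (Acts.moves C (acts_wordN C L'))
        have h2 := Acts.moves C (acts_wordN C (L₀ ++ [i]))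
        rw [hW, he, hL] at h2
        exact (one_mul _).symm.trans (Moves.unique C h1 h2)
      obtain ⟨d, hd, hd'⟩ := ih L'.length (by simp at hn; omega) L' rfl hL' hperm
      exact ⟨c * d, mul_mem hc hd, by rw [hW, he, hd', map_mul]⟩

/-- An element of the monomial Levi subgroup fixing every root is in the torus of the Levi. -/
theorem eq_torus_of_moves_one {n : GL D.Idx F} (hn : n ∈ NR C R) (h : C.Moves n 1) :
    ∃ c ∈ suppSub R, n = C.R.torus c := by
  obtain ⟨c, hc, L, hL, rfl⟩ := exists_NR_form C R hn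
  have h1 := Moves.unique C (Moves.mul C (C.moves_torus c) (Acts.moves C (acts_wordN C L))) h
  obtain ⟨d, hd, hd'⟩ := wordN_mem_torus C R L hL (by simpa using h1)
  exact ⟨c * d, mul_mem hc hd, by rw [hd', map_mul]⟩

/-- The permutations of the monomial Levi subgroup keep the coefficients outside `R`. -/
theorem coef_NR {n : GL D.Idx F} (hn : n ∈ NR C R) {w : Equiv.Perm (Fin D.nroots)}
    (h : C.Moves n w) (s : Fin D.nroots) {k : Fin D.rank} (hk : k ∉ R) :
    C.R.α (w s) k = C.R.α s k := by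
  obtain ⟨c, hc, L, hL, rfl⟩ := exists_NR_form C R hn
  obtain rfl : C.hR.wordPerm L = w := by
    simpa using Moves.unique C (Moves.mul C (C.moves_torus c) (Acts.moves C (acts_wordN C L))) h
  clear hn h hc
  induction L with
  | nil => simp [ReflData.wordPerm]
  | cons j L ih =>
    have hj : k ≠ j := fun e => hk (by rw [e]; exact hL j (List.mem_cons_self ..))
    rw [show C.hR.wordPerm (j :: L) = C.hR.sPerm j * C.hR.wordPerm L by simp [ReflData.wordPerm],
      Equiv.Perm.mul_apply, C.hR.sPerm_val, C.hR.α_refl j _ (Fin.isLt _), Pi.sub_apply,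
      Pi.smul_apply, Pi.single_eq_of_ne hj, smul_zero, sub_zero]
    exact ih fun i hi => hL i (List.mem_cons_of_mem _ hi)

/-- Conjugation by the monomial Levi subgroup fixes a character trivial on the torus of the Levi. -/
theorem conj_char {k : Type*} [CommMonoid k] (ψ : (Fin D.rank → Fˣ) →* k)
    (hψ : ∀ i ∈ R, ∀ t : Fˣ, ψ (Pi.mulSingle i t) = 1) {n : GL D.Idx F} (hn : n ∈ NR C R)
    (c : Fin D.rank → Fˣ) : ∃ d, n * C.R.torus c = C.R.torus d * n ∧ ψ d = ψ c := by
  obtain ⟨e, he, L, hL, rfl⟩ := exists_NR_form C R hn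
  suffices h : ∃ d, wordN C L * C.R.torus c = C.R.torus d * wordN C L ∧ ψ d = ψ c by
    obtain ⟨d, hd, hd'⟩ := h
    exact ⟨d, by rw [mul_assoc, hd, ← mul_assoc, ← mul_assoc, ← map_mul, ← map_mul, mul_comm e], hd'⟩
  clear hn he
  induction L with
  | nil => exact ⟨c, by simp [wordN], rfl⟩
  | cons i L ih =>
    obtain ⟨d, hd, hd'⟩ := ih fun j hj => hL j (List.mem_cons_of_mem _ hj)
    refine ⟨sv C i d, by rw [wordN_cons, mul_assoc, hd, ← mul_assoc, nS_mul_torus, mul_assoc], ?_⟩
    rw [sv_apply, map_mul, hψ i (hL i (List.mem_cons_self ..)), mul_one, hd']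

theorem char_supp_eq_one {k : Type*} [CommMonoid k] (ψ : (Fin D.rank → Fˣ) →* k)
    (hψ : ∀ i ∈ R, ∀ t : Fˣ, ψ (Pi.mulSingle i t) = 1) {c : Fin D.rank → Fˣ} (hc : c ∈ suppSub R) :
    ψ c = 1 := by
  rw [← Finset.univ_prod_mulSingle c, map_prod]
  refine Finset.prod_eq_one fun i _ => ?_
  by_cases hi : i ∈ R
  · exact hψ i hi _
  · rw [hc i hi, Pi.mulSingle_one, map_one]

/-! ### The longest element -/

include C in
theorem exists_bar (i : Fin D.rank) : ∃ k : Fin D.rank, wLong C (C.pNeg i) = C.pRoot k := by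
  set v := C.hR.sPerm i * (wLong C)⁻¹ with hv
  have hvW : v ∈ C.hR.weyl := mul_mem (C.hR.sPerm_mem i) (inv_mem (wLong_mem C))
  set β := wLong C (C.pNeg i) with hβ
  have hβp : D.IsPosRoot β :=
    wLong_neg C ((C.R.isNeg_neg_iff (C.R.simple_lt i)).2 (C.R.simple_pos i))
  have hvβ : v β = C.pRoot i := by
    rw [hv, hβ, Equiv.Perm.mul_apply, Equiv.Perm.inv_def, Equiv.symm_apply_apply, C.sPerm_pNeg]
  obtain ⟨k, hk⟩ : ∃ k : Fin D.rank, D.IsPosRoot (v (C.pRoot k)) := by
    by_contra! hcon
    have hneg : D.IsNegRoot (v β) := by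
      refine (C.R.isNeg_iff _).2 ⟨(v β).isLt, ?_⟩
      rw [C.hR.α_weyl v hvW β]
      exact Finset.sum_nonpos fun j _ => smul_nonpos_of_nonneg_of_nonpos
        (((C.R.isPos_iff _).1 hβp).2 j)
        ((C.R.isNeg_iff _).1 ((C.R.pos_or_neg (Fin.isLt _)).resolve_left (hcon j))).2
    rw [hvβ] at hneg
    exact C.R.not_pos_and_neg (C.R.simple_pos i) hneg
  refine ⟨k, ?_⟩
  set x := (wLong C)⁻¹ (C.pRoot k) with hx
  have hxneg : D.IsNegRoot x := (C.R.pos_or_neg x.isLt).resolve_left fun h => by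
    have h1 := wLong_pos C h
    rw [hx, Equiv.Perm.inv_def, Equiv.apply_symm_apply] at h1
    exact C.R.not_pos_and_neg (C.R.simple_pos k) h1
  rw [hv, Equiv.Perm.mul_apply, ← hx] at hk
  have h2 : C.hR.sPerm i x = C.pRoot i := by
    refine Fin.ext (by_contra fun hne => C.R.not_pos_and_neg ?_ hxneg)
    have h3 := C.hR.refl_pos i hk hne
    rw [C.hR.sPerm_val, C.hR.refl_refl i x.isLt] at h3
    exact h3
  rw [hβ, ← C.sPerm_pRoot, ← h2, C.hR.sPerm_sPerm, hx, Equiv.Perm.inv_def, Equiv.apply_symm_apply]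

/-- The permutation of the fundamental roots induced by minus the longest element. -/
noncomputable def bar : Equiv.Perm (Fin D.rank) :=
  Equiv.ofBijective (fun i => (exists_bar C i).choose) (Finite.injective_iff_bijective.1 fun i j h => by
    have h' : C.pRoot (exists_bar C i).choose = C.pRoot (exists_bar C j).choose := congrArg C.pRoot h
    rw [← (exists_bar C i).choose_spec, ← (exists_bar C j).choose_spec] at h'
    have h1 : D.neg (D.simple i.val) = D.neg (D.simple j.val) :=
      congrArg Fin.val ((wLong C).injective h')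
    have h2 := congrArg D.neg h1
    rw [C.R.neg_neg _ (C.R.simple_lt i), C.R.neg_neg _ (C.R.simple_lt j)] at h2
    have h3 : C.R.α (D.simple i.val) = C.R.α (D.simple j.val) := by rw [h2]
    rw [C.R.α_simple, C.R.α_simple] at h3
    have h4 := congrFun h3 i
    rw [Pi.single_eq_same, Pi.single_apply] at h4
    split_ifs at h4 with h5
    · exact h5
    · exact absurd h4 one_ne_zero)

theorem wLong_pNeg (i : Fin D.rank) : wLong C (C.pNeg i) = C.pRoot (bar C i) :=
  (exists_bar C i).choose_spec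

theorem wLong_pRoot (i : Fin D.rank) : wLong C (C.pRoot i) = C.pNeg (bar C i) := by
  refine Fin.ext ?_
  have h := C.hR.apply_neg (wLong_mem C) (C.pRoot i)
  change (wLong C (C.pNeg i) : ℕ) = D.neg (wLong C (C.pRoot i)) at h
  rw [wLong_pNeg] at h
  show _ = D.neg (C.pRoot (bar C i) : ℕ)
  rw [h, C.R.neg_neg _ (Fin.isLt _)]

theorem exists_nTop_conj (i : Fin D.rank) :
    (∀ t : Fˣ, nTop C * C.R.torusSingle i t * (nTop C)⁻¹ = C.R.torusSingle (bar C i) t⁻¹) ∧
      ∃ e : Fˣ, nTop C * C.nS i * (nTop C)⁻¹ = C.R.torusSingle (bar C i) e * C.nS (bar C i) := by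
  set k := bar C i
  set m := nTop C * C.nS i with hm
  obtain ⟨e, he, hconj⟩ := C.nGL_conj (Acts.mul C (nTop_acts C) (C.acts_nS i)) (C.pRoot i)
  rw [Equiv.Perm.mul_apply, C.sPerm_pRoot, wLong_pNeg] at hconj
  have he0 : (e : F) ≠ 0 := by rcases he with h | h <;> simp [h]
  set u : Fˣ := Units.mk0 _ he0
  have key : ∀ t : Fˣ, m * (C.R.torusSingle i t * C.nS i) * m⁻¹ =
      C.R.torusSingle k (u * t) * C.nS k := by
    intro t
    rw [← C.nGL_simple, ← C.nGL_simple]
    exact hconj t
  have key1 : m * C.nS i * m⁻¹ = C.R.torusSingle k u * C.nS k := by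
    have := key 1
    rwa [show C.R.torusSingle i (1 : Fˣ) = 1 by simp [RootData.torusSingle], one_mul, mul_one] at this
  refine ⟨fun t => ?_, u, ?_⟩
  · have h1 : m * C.R.torusSingle i t⁻¹ * m⁻¹ = C.R.torusSingle k t⁻¹ := by
      calc m * C.R.torusSingle i t⁻¹ * m⁻¹
          = m * (C.R.torusSingle i t⁻¹ * C.nS i) * m⁻¹ * (m * C.nS i * m⁻¹)⁻¹ := by group
        _ = C.R.torusSingle k (u * t⁻¹) * (C.R.torusSingle k u)⁻¹ := by rw [key, key1]; group
        _ = C.R.torusSingle k t⁻¹ := by
            simp only [RootData.torusSingle, ← map_inv, ← map_mul, ← Pi.mulSingle_inv,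
              ← Pi.mulSingle_mul, mul_inv_cancel_comm]
    rw [← h1, hm]
    have h2 := nS_conj_torus' C i (Pi.mulSingle i t)
    rw [sv_single] at h2
    calc nTop C * C.R.torusSingle i t * (nTop C)⁻¹
        = nTop C * (C.R.torusSingle i t * C.nS i) * (C.nS i)⁻¹ * (nTop C)⁻¹ := by group
      _ = _ := by rw [RootData.torusSingle, RootData.torusSingle, h2]; group
  · rw [← key1, hm]; group

/-- The effect of the longest representative on torus parameters. -/
noncomputable def topMap : (Fin D.rank → Fˣ) →* (Fin D.rank → Fˣ) where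
  toFun c := fun k => (c ((bar C).symm k))⁻¹
  map_one' := by funext k; simp
  map_mul' a b := by funext k; simp [mul_comm]

theorem nTop_torus (c : Fin D.rank → Fˣ) :
    nTop C * C.R.torus c = C.R.torus (topMap C c) * nTop C := by
  rw [← mul_inv_eq_iff_eq_mul]
  let f : (Fin D.rank → Fˣ) →* GL D.Idx F :=
    (MulAut.conj (nTop C)).toMonoidHom.comp (C.R.torus (F := F))
  suffices h : ∀ (i : Fin D.rank) (t : Fˣ),
      f (Pi.mulSingle i t) = (C.R.torus (F := F)).comp (topMap C) (Pi.mulSingle i t) by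
    have h1 : c ∈ f.eqLocus ((C.R.torus (F := F)).comp (topMap C)) := by
      rw [← Finset.univ_prod_mulSingle c]
      exact Subgroup.prod_mem _ fun i _ => h i (c i)
    exact h1
  intro i t
  show f (Pi.mulSingle i t) = _
  suffices h : nTop C * C.R.torusSingle i t * (nTop C)⁻¹ =
      C.R.torus (topMap C (Pi.mulSingle i t)) from h
  rw [(exists_nTop_conj C i).1, RootData.torusSingle]
  congr 1
  funext k
  show _ = ((Pi.mulSingle i t : Fin D.rank → Fˣ) ((bar C).symm k))⁻¹
  by_cases hk : k = bar C i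
  · subst hk; simp
  · rw [Pi.mulSingle_eq_of_ne hk,
      Pi.mulSingle_eq_of_ne (fun e => hk (by rw [← e, Equiv.apply_symm_apply])), inv_one]

end CfsgLib.SimpleCount
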