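import Cfsg.Agent.Lib.ModRep.Main
import Cfsg.Agent.Lib.ModRep.Decomp

/-!
Brauer's theorem: there are as many simple modules as classes of elements of order prime to `p`.
-/

set_option autoImplicit false
set_option linter.unusedSectionVars false
set_option linter.style.haveILetI false

namespace CfsgLib.SimpleCount

open Cfsg MonoidAlgebra CfsgLib.Blocks CfsgLib.BrauerPairs CfsgLib.Characters CfsgLib.ModRep

universe u

variable {G : Type u} [Group G] [Fintype G] {p : ℕ} [hp : Fact p.Prime] {M : Ideal AlgInt}
  [M.IsMaximal]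

theorem orderOf_dvd_of_isConj {g h : G} (hgh : IsConj g h) : orderOf g = orderOf h := by
  obtain ⟨c, hc⟩ := isConj_iff.1 hgh
  rw [← hc, ModRep.orderOf_conj]

/-- Brauer's theorem on the number of simple modules. -/
theorem card_sys_eq (hM : IsPModular p M) (S : Sys (ResK M) G) :
    S.s = Nat.card {c : ConjClasses G // ∃ g : G, ConjClasses.mk g = c ∧ ¬ p ∣ orderOf g} := by
  classical
  set RC := {c : ConjClasses G // ∃ g : G, ConjClasses.mk g = c ∧ ¬ p ∣ orderOf g}
  let Φ : (RC → ℂ) →ₗ[ℂ] (G → ℂ) :=
    { toFun := fun f g => if h : ¬ p ∣ orderOf g then f ⟨ConjClasses.mk g, g, rfl, h⟩ else 0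
      map_add' := fun a b => by funext g; by_cases h : p ∣ orderOf g <;> simp [h]
      map_smul' := fun a b => by funext g; by_cases h : p ∣ orderOf g <;> simp [h] }
  have hΦ : ∀ f g, (hg : ¬ p ∣ orderOf g) → Φ f g = f ⟨ConjClasses.mk g, g, rfl, hg⟩ :=
    fun f g hg => dif_pos hg
  have hinj : Function.Injective Φ := by
    intro a b hab
    funext c
    obtain ⟨g, hgc, hg⟩ := c.2
    have := congrFun hab g
    rw [hΦ a g hg, hΦ b g hg] at this
    rwa [show (⟨ConjClasses.mk g, g, rfl, hg⟩ : RC) = c from Subtype.ext hgc] at this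
  set φ := fun i => modChar hM (S.rep i)
  have hrange : Submodule.span ℂ (Set.range φ) = LinearMap.range Φ := by
    refine le_antisymm (Submodule.span_le.2 ?_) ?_
    · rintro _ ⟨i, rfl⟩
      refine ⟨fun c => φ i c.2.choose, funext fun g => ?_⟩
      by_cases hg : p ∣ orderOf g
      · show dite _ _ _ = _
        rw [dif_neg (not_not.2 hg), show φ i g = 0 from modChar_of_singular _ hg]
      · rw [hΦ _ g hg]
        obtain ⟨h1, -⟩ := Exists.choose_spec
          (⟨g, rfl, hg⟩ : ∃ g' : G, ConjClasses.mk g' = ConjClasses.mk g ∧ ¬ p ∣ orderOf g')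
        obtain ⟨c, hc⟩ := isConj_iff.1 (ConjClasses.mk_eq_mk_iff_isConj.1 h1)
        show φ i _ = φ i g
        conv_rhs => rw [← hc]
        exact (modChar_conj _ _ c).symm
    · rintro _ ⟨f, rfl⟩
      have hcl : IsClassFunction G (Φ f) := by
        intro g h
        by_cases hg : p ∣ orderOf g
        · show dite _ _ _ = dite _ _ _
          rw [dif_neg (by rw [ModRep.orderOf_conj]; exact not_not.2 hg), dif_neg (not_not.2 hg)]
        · have hg' : ¬ p ∣ orderOf (h * g * h⁻¹) := by rwa [ModRep.orderOf_conj]
          rw [hΦ f g hg, hΦ f _ hg']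
          congr 1
          exact Subtype.ext (ConjClasses.mk_eq_mk_iff_isConj.2 (isConj_iff.2 ⟨h⁻¹, by group⟩))
      have heq : Φ f = ∑ χ : IrrCharacter G,
          classInner (Φ f) (χ : G → ℂ) • pRegularPart p (χ : G → ℂ) := by
        funext g
        have h1 := congrFun (classFunction_eq_sum hcl) g
        simp only [Finset.sum_apply, Pi.smul_apply, smul_eq_mul, pRegularPart] at h1 ⊢
        by_cases hg : p ∣ orderOf g
        · have : Φ f g = 0 := dif_neg (not_not.2 hg)
          simp [this, IsPRegular, hg]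
        · simpa [IsPRegular, hg] using h1
      rw [heq]
      refine Submodule.sum_mem _ fun χ _ => Submodule.smul_mem _ _ ?_
      rw [pRegularPart_eq_sum (hM := hM) S χ]
      exact Submodule.sum_mem _ fun i _ => Submodule.smul_mem _ _ (Submodule.subset_span ⟨i, rfl⟩)
  have h1 := finrank_span_eq_card (modChar_linearIndependent (hM := hM) S)
  rw [hrange, LinearMap.finrank_range_of_inj hinj, Module.finrank_fintype_fun_eq_card,
    Fintype.card_fin] at h1
  rw [Nat.card_eq_fintype_card]
  exact h1.symm

end CfsgLib.SimpleCount
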