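import Cfsg.Agent.Lib.SimpleCount.Exist
import Cfsg.Agent.Lib.SimpleCount.Regular
import Cfsg.Agent.Lib.BlockCover.Regular
import Cfsg.Agent.Lib.ChevStr.TorusOrder
import Mathlib.RingTheory.RootsOfUnity.AlgebraicallyClosed
import Mathlib.GroupTheory.FiniteAbelian.Duality

/-!
Curtis–Richen classification of the simple modules and Steinberg's count of semisimple classes.
-/

set_option autoImplicit false
set_option linter.style.haveILetI false

namespace CfsgLib.SimpleCount

open Cfsg Cfsg.Lie CfsgLib.ChevStr CfsgLib.ChevStr.ChevCore CfsgLib.ModRep CfsgLib.BrauerPairs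
open scoped MatrixGroups

variable {D : ChevalleyDatum} {F : Type*} [Field F] [Fintype F] (C : ChevCore D F)

/-- The torus map is injective when its image has full order. -/
theorem torus_injective_of_gcd {P P' Q Q' : List (List ℤ)} {d : List ℕ}
    (hs : smithCheck D P P' Q Q' d = true)
    (hd : ∀ a : Fin D.rank, Nat.gcd (Fintype.card F - 1) (d.getD a.val 0) = 1) :
    Function.Injective (C.R.torus (F := F)) := by
  classical
  have h := C.card_diagonal hs
  simp only [hd, Finset.prod_const_one, one_mul, C.diagonalSubgroup_eq] at h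
  have hcard : Nat.card (Fin D.rank → Fˣ) = (Fintype.card F - 1) ^ D.rank := by
    simp [Fintype.card_units]
  have hb := (Function.Surjective.bijective_of_nat_card_le
    (C.R.torus (F := F)).rangeRestrict_surjective (by rw [hcard, ← h]))
  exact fun a b hab => hb.1 (Subtype.ext hab)

theorem card_weights {k : Type*} [Field k] [IsAlgClosed k] (p : ℕ) [Fact p.Prime] [CharP k p]
    [CharP F p] :
    Nat.card (Fin D.rank → Option (Fˣ →* kˣ)) = Fintype.card F ^ D.rank := by
  classical
  haveI : NeZero ((Monoid.exponent Fˣ : ℕ) : k) := ⟨fun h => by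
    rw [CharP.cast_eq_zero_iff k p] at h
    obtain ⟨n, -, hn⟩ := FiniteField.card F p
    have h1 : p ∣ Fintype.card F - 1 := by
      rw [← Fintype.card_units]; exact h.trans Group.exponent_dvd_card
    have h2 := Nat.dvd_sub (hn ▸ dvd_pow_self p n.pos.ne' : p ∣ Fintype.card F) h1
    rw [Nat.sub_sub_self Fintype.card_pos] at h2
    exact (Fact.out : p.Prime).not_dvd_one h2⟩
  haveI : HasEnoughRootsOfUnity k (Monoid.exponent Fˣ) := inferInstance
  obtain ⟨e⟩ := CommGroup.monoidHom_mulEquiv_of_hasEnoughRootsOfUnity Fˣ k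
  haveI : Finite (Fˣ →* kˣ) := Finite.of_equiv _ e.symm.toEquiv
  have h : Nat.card (Fˣ →* kˣ) = Fintype.card F - 1 := by
    rw [Nat.card_congr e.toEquiv, Nat.card_units, Nat.card_eq_fintype_card]
  rw [Nat.card_pi, Finset.prod_const, Finset.card_univ, Fintype.card_fin, Finite.card_option, h,
    Nat.sub_add_cancel Fintype.card_pos]

variable {k : Type*} [Field k] {V : Type*} [AddCommGroup V] [Module k V]

theorem invariant_span_orbit {G : Type*} [Group G] (ρ : G →* Module.End k V) (v : V) :
    Invariant ρ (Submodule.span k (Set.range fun g => ρ g v)) := by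
  intro g w hw
  induction hw using Submodule.span_induction with
  | mem x hx =>
    obtain ⟨g', rfl⟩ := hx
    exact Submodule.subset_span ⟨g * g', by show ρ (g * g') v = ρ g (ρ g' v); rw [map_mul]; rfl⟩
  | zero => rw [map_zero]; exact zero_mem _
  | add x y _ _ hx hy => rw [map_add]; exact add_mem hx hy
  | smul r x _ hx => rw [map_smul]; exact Submodule.smul_mem _ _ hx

omit [Fintype F] in
/-- A weight vector gives a simple module with the same weight. -/
theorem exists_simple_of_weight [Fintype F] (ρ : ↥(D.group F) →* Module.End k V)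
    {a : Fin D.rank → Option (Fˣ →* kˣ)} {v : V} (h : IsWeight C ρ a v) (S : Sys k ↥(D.group F)) :
    ∃ i x, IsWeight C (S.rep i) a x := by
  classical
  set W := Submodule.span k (Set.range fun g => ρ g v) with hW
  have hinv : Invariant ρ W := invariant_span_orbit ρ v
  have hvW : v ∈ W := Submodule.subset_span ⟨1, by simp⟩
  haveI : FiniteDimensional k W := FiniteDimensional.span_of_finite k (Set.finite_range _)
  set σ := subRep hinv with hσ
  set v' : W := ⟨v, hvW⟩
  have hv' : IsWeight C σ a v' := by
    refine ⟨fun h0 => h.ne (congrArg Subtype.val h0), fun u hu => Subtype.ext (h.fix u hu),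
      fun c => Subtype.ext (h.eig c), fun i => Subtype.ext ?_⟩
    simp only [T, Submodule.coe_sum, Submodule.coe_smul]
    exact h.hT i
  have hne : {N : Submodule k W | Invariant σ N ∧ v' ∉ N}.Nonempty :=
    ⟨⊥, fun g x hx => by rw [Submodule.mem_bot] at hx ⊢; rw [hx, map_zero],
      fun h0 => hv'.ne ((Submodule.mem_bot k).1 h0)⟩
  obtain ⟨N, ⟨hN, hvN⟩, hmax⟩ := (wellFounded_gt (α := Submodule k W)).has_min _ hne
  have hs : IsSimp (quotRep hN) := by
    refine ⟨⟨⟨Submodule.Quotient.mk v', 0, fun h0 =>
      hvN ((Submodule.Quotient.mk_eq_zero N).1 h0)⟩⟩, fun X hX => ?_⟩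
    have hY : Invariant σ (X.comap N.mkQ) := fun g x hx => hX g _ hx
    by_cases hvY : v' ∈ X.comap N.mkQ
    · refine Or.inr ?_
      have htop : X.comap N.mkQ = ⊤ := by
        refine eq_top_iff.2 fun x _ => ?_
        obtain ⟨x, hx⟩ := x
        induction hx using Submodule.span_induction with
        | mem y hy =>
          obtain ⟨g, rfl⟩ := hy
          exact hY g v' hvY
        | zero => exact zero_mem _
        | add y z hy hz iy iz => exact add_mem (iy Submodule.mem_top) (iz Submodule.mem_top)
        | smul r y hy iy => exact Submodule.smul_mem _ r (iy Submodule.mem_top)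
      rw [← Submodule.map_comap_eq_of_surjective N.mkQ_surjective X, htop, Submodule.map_top,
        Submodule.range_mkQ]
    · refine Or.inl ?_
      have hle : N ≤ X.comap N.mkQ := fun x hx => by
        show N.mkQ x ∈ X
        rw [Submodule.mkQ_apply, (Submodule.Quotient.mk_eq_zero N).2 hx]; exact zero_mem _
      have heq : X.comap N.mkQ = N := by
        by_contra hne'
        exact hmax _ ⟨hY, hvY⟩ (lt_of_le_of_ne hle (Ne.symm hne'))
      rw [← Submodule.map_comap_eq_of_surjective N.mkQ_surjective X, heq, Submodule.mkQ_map_self]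
  have hq' : IsWeight C (quotRep hN) a (N.mkQ v') := hv'.map C σ N.mkQ (fun g x => rfl)
    (fun h0 => hvN ((Submodule.Quotient.mk_eq_zero N).1 h0))
  obtain ⟨i, L, hL⟩ := S.exists_equiv hs
  refine ⟨i, L.symm (N.mkQ v'), hq'.map C (quotRep hN) L.symm.toLinearMap (fun g x => ?_)
    fun h0 => hq'.ne (L.symm.map_eq_zero_iff.1 h0)⟩
  apply L.injective
  show L (L.symm (quotRep hN g x)) = L (S.rep i g (L.symm x))
  rw [hL, L.apply_symm_apply, L.apply_symm_apply]

/-- The simple modules correspond to the weights. -/
theorem card_sys_eq_weights [IsAlgClosed k] (p : ℕ) [Fact p.Prime] [CharP k p] [CharP F p]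
    (hinj : Function.Injective (C.R.torus (F := F))) (S : Sys k ↥(D.group F)) :
    S.s = Fintype.card F ^ D.rank := by
  classical
  have hq : ((Fintype.card F : ℕ) : k) = 0 := by
    obtain ⟨n, -, hn⟩ := FiniteField.card F p
    rw [hn, Nat.cast_pow, CharP.cast_eq_zero k p, zero_pow n.pos.ne']
  choose a v hv using fun i => exists_weight C (S.rep i) hq p (S.isSimp_rep i)
  rw [← card_weights (D := D) (F := F) (k := k) p, ← Nat.card_fin S.s]
  refine Nat.card_eq_of_bijective a ⟨fun i j h => ?_, fun w => ?_⟩
  · obtain ⟨L, hL⟩ := equiv_of_weight C (S.rep i) p (S.rep j) (S.isSimp_rep i) (S.isSimp_rep j)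
      (hv i) (h.symm ▸ hv j)
    exact S.rep_injective L hL
  · obtain ⟨f, hf⟩ := exists_phi_weight C p hinj hq w
    obtain ⟨i, x, hx⟩ := exists_simple_of_weight C regRep hf S
    exact ⟨i, weight_unique C (S.rep i) hq p (S.isSimp_rep i) (hv i) hx⟩

/-- Steinberg's count of the semisimple classes. -/
theorem card_regular_classes {D : ChevalleyDatum} {F : Type*} [Field F] [Fintype F]
    (C : ChevCore D F) (p : ℕ) [Fact p.Prime] [CharP F p]
    (hinj : Function.Injective (C.R.torus (F := F))) :
    Nat.card {c : ConjClasses ↥(D.group F) //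
      ∃ g : ↥(D.group F), ConjClasses.mk g = c ∧ ¬ p ∣ orderOf g} = Fintype.card F ^ D.rank := by
  classical
  obtain ⟨M, hM⟩ := CfsgLib.BlockCover.exists_isPModular (p := p) Fact.out
  haveI : M.IsMaximal := hM.2.1
  haveI := charP_res hM
  haveI := BPStar.isAlgClosed_res hM
  haveI := Fintype.ofFinite ↥(D.group F)
  obtain ⟨S⟩ := exists_sys (K := ResK M) (G := ↥(D.group F))
  rw [← card_sys_eq (G := ↥(D.group F)) hM S]
  exact card_sys_eq_weights C p hinj S

/-- The same with coprimality. -/
theorem card_coprime_classes {D : ChevalleyDatum} {F : Type*} [Field F] [Fintype F]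
    (C : ChevCore D F) (p : ℕ) [Fact p.Prime] [CharP F p]
    (hinj : Function.Injective (C.R.torus (F := F))) :
    Nat.card {c : ConjClasses ↥(D.group F) //
      ∃ g : ↥(D.group F), ConjClasses.mk g = c ∧ (orderOf g).Coprime p} =
        Fintype.card F ^ D.rank := by
  rw [← card_regular_classes C p hinj]
  refine Nat.card_congr (Equiv.subtypeEquivRight fun c => exists_congr fun g => and_congr_right fun _ => ?_)
  rw [Nat.coprime_comm, (Fact.out : p.Prime).coprime_iff_not_dvd]

end CfsgLib.SimpleCount
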