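import Cfsg.Agent.Lib.SimpleCount.Base
import Mathlib.LinearAlgebra.Span.Defs

/-!
The operators `T_i` on vectors fixed by `U` in a representation over a field in which `q = 0`.
-/

set_option autoImplicit false

namespace CfsgLib.SimpleCount

open Cfsg.Lie CfsgLib.ChevStr CfsgLib.ChevStr.ChevCore
open scoped MatrixGroups

variable {D : ChevalleyDatum} {F : Type*} [Field F] [Fintype F] (C : ChevCore D F)
variable {k : Type*} [Field k] {V : Type*} [AddCommGroup V] [Module k V]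
variable (ρ : ↥(D.group F) →* Module.End k V)

/-- `v` is fixed by `U`. -/
def FixU (v : V) : Prop := ∀ u ∈ UP C, ρ u v = v

/-- `v` is an eigenvector of the torus with character `χ`. -/
def EigH (χ : (Fin D.rank → Fˣ) →* kˣ) (v : V) : Prop := ∀ c, ρ (tg C c) v = (χ c : k) • v

/-- The operator `T_i`. -/
def T (i : Fin D.rank) (v : V) : V := ∑ t : F, ρ (xg C (D.simple i.val) t * C.nSG i) v

theorem T_smul (i : Fin D.rank) (a : k) (v : V) : T C ρ i (a • v) = a • T C ρ i v := by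
  simp [T, Finset.smul_sum]

theorem T_zero (i : Fin D.rank) : T C ρ i 0 = 0 := by simp [T]

theorem ρ_mul (a b : ↥(D.group F)) (v : V) : ρ (a * b) v = ρ a (ρ b v) := by
  rw [map_mul, Module.End.mul_apply]

theorem fix_xg {v : V} (hv : FixU C ρ v) (i : Fin D.rank) (t : F) :
    ρ (xg C (D.simple i.val) t) v = v :=
  hv _ (xg_mem_UP C (C.R.simple_pos i) t)

theorem T_fix {v : V} (hv : FixU C ρ v) (i : Fin D.rank) : FixU C ρ (T C ρ i v) := by
  intro u hu
  have hu' : (u : GL D.Idx F) ∈ C.Usub i ⊔ D.rootSubgroup F (D.simple i.val) := by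
    rw [C.Usub_sup_root]; exact hu
  rw [← SetLike.mem_coe,
    Subgroup.coe_mul_of_right_le_normalizer_left _ _ (C.rootSubgroup_le_normalizer_Usub i)] at hu'
  obtain ⟨a, ha, x, hx, hax⟩ := hu'
  obtain ⟨s, rfl⟩ := C.mem_rootSubgroup.1 hx
  simp only [T, map_sum, ← ρ_mul]
  refine Fintype.sum_equiv (Equiv.addLeft s) _ _ fun t => ?_
  set y := (C.xGL (D.simple i.val) (s + t))⁻¹ * a * C.xGL (D.simple i.val) (s + t) with hy
  have hyU : y ∈ C.Usub i := by
    have hn := C.rootSubgroup_le_normalizer_Usub i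
      (C.mem_rootSubgroup.2 ⟨-(s + t), C.xGL_inv (D.simple i.val) (s + t)⟩)
    simpa [hy] using (Subgroup.mem_normalizer_iff.1 hn a).1 ha
  set z := (C.nS i)⁻¹ * y * C.nS i with hz
  have hzU : z ∈ D.posUnipotent F := C.Usub_le i (nS_inv_conj_Usub C i hyU)
  have he : u * (xg C (D.simple i.val) t * C.nSG i) = xg C (D.simple i.val) (s + t) * C.nSG i *
      ⟨z, C.borel_le_group (le_sup_left (b := D.diagonalSubgroup F) hzU)⟩ := by
    refine Subtype.ext ?_
    show (u : GL D.Idx F) * (C.xGL (D.simple i.val) t * C.nS i) =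
      C.xGL (D.simple i.val) (s + t) * C.nS i * z
    rw [← hax, hz, hy, C.xGL_add]
    group
  rw [he, ρ_mul, hv _ hzU]
  rfl

theorem T_eig {v : V} {χ : (Fin D.rank → Fˣ) →* kˣ} (hv : EigH C ρ χ v) (i : Fin D.rank) :
    EigH C ρ (χ.comp (sv C i)) (T C ρ i v) := by
  intro c
  simp only [T, map_sum, Finset.smul_sum, ← ρ_mul]
  set a : Fˣ := C.R.torusChar c (C.R.α (D.simple i.val)) with ha
  refine Fintype.sum_equiv (Equiv.mulLeft₀ (a : F) a.ne_zero) _ _ fun t => ?_
  have he : tg C c * (xg C (D.simple i.val) t * C.nSG i) =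
      xg C (D.simple i.val) ((a : F) * t) * C.nSG i * tg C (sv C i c) := by
    rw [mul_assoc (xg C _ _), ← tg_mul_nSG, ← mul_assoc, ← mul_assoc]
    congr 1
    refine Subtype.ext ?_
    show C.R.torus c * C.xGL (D.simple i.val) t = C.xGL (D.simple i.val) ((a : F) * t) * C.R.torus c
    rw [← mul_inv_eq_iff_eq_mul]
    exact C.acts_torus c (C.pRoot i) t
  rw [he, ρ_mul, hv, map_smul]
  rfl

/-- The value `-1` or `0` of the sum of a character over the multiplicative group. -/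
noncomputable def sig (χ : (Fin D.rank → Fˣ) →* kˣ) (i : Fin D.rank) : k := by
  classical exact if ∀ t : Fˣ, χ (Pi.mulSingle i t) = 1 then -1 else 0

theorem sum_eq_zero_add [DecidableEq F] (g : F → V) : ∑ t : F, g t = g 0 + ∑ u : Fˣ, g u := by
  rw [← Finset.add_sum_erase _ _ (Finset.mem_univ (0 : F))]
  congr 1
  refine Finset.sum_bij' (fun t ht => Units.mk0 t (Finset.ne_of_mem_erase ht)) (fun u _ => (u : F))
    (fun t _ => Finset.mem_univ _) (fun u _ => Finset.mem_erase.2 ⟨u.ne_zero, Finset.mem_univ _⟩)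
    (fun t _ => rfl) (fun u _ => Units.ext rfl) (fun t _ => rfl)

variable (hq : ((Fintype.card F : ℕ) : k) = 0)

include hq

theorem sum_char [DecidableEq F] (χ : (Fin D.rank → Fˣ) →* kˣ) (i : Fin D.rank) :
    ∑ u : Fˣ, (χ (Pi.mulSingle i (-u)) : k) = sig χ i := by
  classical
  rw [Fintype.sum_equiv (Equiv.neg Fˣ) (fun u => (χ (Pi.mulSingle i (-u)) : k))
    (fun u => (χ (Pi.mulSingle i u) : k)) fun u => rfl]
  let f : Fˣ →* k :=
    (Units.coeHom k).comp (χ.comp (MonoidHom.mulSingle (fun _ : Fin D.rank => Fˣ) i))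
  have h := sum_hom_units f
  change ∑ u : Fˣ, (χ (Pi.mulSingle i u) : k) = _ at h
  rw [h, sig]
  by_cases hc : ∀ t : Fˣ, χ (Pi.mulSingle i t) = 1
  · rw [if_pos hc, if_pos (MonoidHom.ext fun u => by
      show (χ (Pi.mulSingle i u) : k) = 1
      rw [hc u, Units.val_one]), Fintype.card_units]
    push_cast [Nat.cast_sub (Fintype.card_pos (α := F)), hq]
    ring
  · rw [if_neg hc, if_neg fun h1 => hc fun u => Units.ext (DFunLike.congr_fun h1 u), Nat.cast_zero]

omit hq in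
theorem nSG_apply_aux {v : V} {χ : (Fin D.rank → Fˣ) →* kˣ} (hv : FixU C ρ v)
    (hχ : EigH C ρ χ v) (i : Fin D.rank) (a : Fˣ) :
    ρ (xg C (D.simple i.val) (a : F) * C.nSG i) v =
      (χ (Pi.mulSingle i (-a)) : k) • ρ (xg C (D.neg (D.simple i.val)) (a : F)⁻¹) v := by
  rw [xg_mul_nSG, ρ_mul, ρ_mul, hχ, map_smul, fix_xg C ρ hv, map_smul]

omit hq in
/-- The image of a weight vector under a fundamental representative. -/
theorem nSG_apply [DecidableEq F] {v : V} {χ : (Fin D.rank → Fˣ) →* kˣ} (hv : FixU C ρ v)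
    (hχ : EigH C ρ χ v) (i : Fin D.rank) :
    ρ (C.nSG i) v = T C ρ i v -
      ∑ a : Fˣ, (χ (Pi.mulSingle i (-a)) : k) • ρ (xg C (D.neg (D.simple i.val)) (a : F)⁻¹) v := by
  rw [T, sum_eq_zero_add (fun t => ρ (xg C (D.simple i.val) t * C.nSG i) v), xg_zero, one_mul,
    Finset.sum_congr rfl (fun a _ => nSG_apply_aux C ρ hv hχ i a), add_sub_cancel_right]

/-- The square of `T_i`. -/
theorem T_T {v : V} {χ : (Fin D.rank → Fˣ) →* kˣ} (hv : FixU C ρ v) (hχ : EigH C ρ χ v)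
    (i : Fin D.rank) : T C ρ i (T C ρ i v) = sig χ i • T C ρ i v := by
  classical
  obtain ⟨e, he⟩ := exists_nSG_neg C i
  set p := D.simple i.val
  have h0 : ∀ s : F, ρ (xg C p s * C.nSG i) (ρ (xg C p 0 * C.nSG i) v) =
      (χ (Pi.mulSingle i (-1)) : k) • v := by
    intro s
    rw [← ρ_mul, xg_zero, one_mul, mul_assoc, nSG_sq, ρ_mul, hχ, map_smul, fix_xg C ρ hv]
  have h1 : ∀ (a : Fˣ) (s : F), ρ (xg C p s * C.nSG i) (ρ (xg C p (a : F) * C.nSG i) v) =
      (χ (Pi.mulSingle i (-a)) : k) • ρ (xg C p (s + (e : F) * (a : F)⁻¹) * C.nSG i) v := by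
    intro a s
    rw [nSG_apply_aux C ρ hv hχ, map_smul, ← ρ_mul, mul_assoc, he, ← mul_assoc, ← xg_add]
  have h2 : T C ρ i (T C ρ i v) =
      ∑ t : F, ∑ s : F, ρ (xg C p s * C.nSG i) (ρ (xg C p t * C.nSG i) v) := by
    simp only [T, map_sum]
    exact Finset.sum_comm
  rw [h2, sum_eq_zero_add (fun t => ∑ s : F, ρ (xg C p s * C.nSG i) (ρ (xg C p t * C.nSG i) v)),
    Finset.sum_congr rfl (fun s _ => h0 s), Finset.sum_const, Finset.card_univ,
    ← Nat.cast_smul_eq_nsmul k, hq, zero_smul, zero_add]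
  have h3 : ∀ a : Fˣ, ∑ s : F, ρ (xg C p s * C.nSG i) (ρ (xg C p (a : F) * C.nSG i) v) =
      (χ (Pi.mulSingle i (-a)) : k) • T C ρ i v := by
    intro a
    simp only [h1, ← Finset.smul_sum]
    congr 1
    exact Fintype.sum_equiv (Equiv.addRight ((e : F) * (a : F)⁻¹)) _ _ fun s => rfl
  rw [Finset.sum_congr rfl (fun a _ => h3 a), ← Finset.sum_smul, sum_char hq]

/-- The possible eigenvalues of `T_i` on a weight vector. -/
theorem eigen_cases {v : V} {χ : (Fin D.rank → Fˣ) →* kˣ} (hv : FixU C ρ v) (hχ : EigH C ρ χ v)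
    (hv0 : v ≠ 0) {i : Fin D.rank} {l : k} (hl : T C ρ i v = l • v) : l = 0 ∨ l = sig χ i := by
  have h := T_T C ρ hq hv hχ i
  rw [hl, T_smul, hl, smul_smul, smul_smul] at h
  have h1 := smul_left_injective k hv0 h
  by_cases hl0 : l = 0
  · exact Or.inl hl0
  · exact Or.inr (mul_right_cancel₀ hl0 h1)

end CfsgLib.SimpleCount
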